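import Cfsg.Agent.S4706
import Mathlib

/-!
# `SL(2, 4)` is the alternating group of degree five
-/

set_option autoImplicit false

namespace CfsgLib.PrimeDegreeTwo

theorem nonempty_sl_four {F : Type} [Field F] [Fintype F] (hF : Fintype.card F = 4) :
    Nonempty (Matrix.SpecialLinearGroup (Fin 2) F ≃* alternatingGroup (Fin 5)) := by
  classical
  have : Fact (Nat.Prime 5) := ⟨by norm_num⟩
  have hcard : Nat.card (alternatingGroup (Fin 5)) = 60 := by
    have h : 2 * Fintype.card (alternatingGroup (Fin 5)) = 120 := by
      rw [two_mul_card_alternatingGroup, Fintype.card_perm, Fintype.card_fin]; rfl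
    rw [Nat.card_eq_fintype_card]
    omega
  let P : Sylow 5 (alternatingGroup (Fin 5)) := Classical.arbitrary _
  have : IsSimpleGroup (alternatingGroup (Fin 5)) := alternatingGroup.isSimpleGroup_five
  have hPc : Nat.card (P : Subgroup (alternatingGroup (Fin 5))) = 5 := by
    rw [Sylow.card_eq_multiplicity, hcard, show (Nat.factorization 60) 5 = 1 by
      rw [show (60 : ℕ) = 5 * 12 from rfl, Nat.factorization_mul (by norm_num) (by norm_num),
        Finsupp.add_apply, Nat.Prime.factorization_self (by norm_num),
        Nat.factorization_eq_zero_of_not_dvd (by norm_num : ¬ 5 ∣ 12)]]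
    norm_num
  have hnn : ¬ (P : Subgroup (alternatingGroup (Fin 5))).Normal := fun hn => by
    rcases hn.eq_bot_or_eq_top with h | h
    · rw [h, Subgroup.card_bot] at hPc; omega
    · rw [h, Subgroup.card_top, hcard] at hPc; omega
  have hN : Nat.card (Subgroup.normalizer ((P : Subgroup (alternatingGroup (Fin 5))) :
      Set (alternatingGroup (Fin 5)))) = 2 * 5 := by
    set N := Subgroup.normalizer ((P : Subgroup (alternatingGroup (Fin 5))) : Set (alternatingGroup (Fin 5)))
      with hNd
    have hidx := Sylow.card_eq_index_normalizer P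
    have hmod := card_sylow_modEq_one 5 (alternatingGroup (Fin 5))
    have h1 := Subgroup.card_mul_index N
    have hdvd : 5 ∣ Nat.card N := (dvd_of_eq hPc.symm).trans (Subgroup.card_dvd_of_le Subgroup.le_normalizer)
    rw [hcard] at h1
    have hne1 : N.index ≠ 1 := fun h => hnn (Subgroup.normalizer_eq_top_iff.mp (Subgroup.index_eq_one.mp h))
    rw [hidx] at hmod
    obtain ⟨r, hr⟩ := hdvd
    rw [hr] at h1 ⊢
    have h12 : r * N.index = 12 := by linarith
    have hle : N.index ≤ 12 := Nat.le_of_dvd (by norm_num) (Dvd.intro_left r h12)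
    have : N.index % 5 = 1 := hmod
    have h6 : N.index = 6 ∨ N.index = 11 := by omega
    rcases h6 with h | h <;> rw [h] at h12 <;> omega
  obtain ⟨a, F', hF', hFf', ha, hc, ⟨e⟩⟩ := (Cfsg.Agent.S4706.result (p := 5) (by norm_num)
    (Fintype.card_fin 5) (alternatingGroup (Fin 5)) P hN).resolve_left hnn
  let f : F ≃+* F' := FiniteField.ringEquivOfCardEq (by rw [hF, hc]; omega)
  refine ⟨(MonoidHom.toMulEquiv (Matrix.SpecialLinearGroup.map f.toRingHom)
    (Matrix.SpecialLinearGroup.map f.symm.toRingHom) ?_ ?_).trans e.symm⟩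
  · ext A i j
    simp
  · ext A i j
    simp

end CfsgLib.PrimeDegreeTwo
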