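import Mathlib

/-!
# Counting fixed points in groups of prime degree

* `sum_descFactorial`: Burnside's lemma on injective tuples;
* `orbit_bound`: for a triply transitive group of degree `p` whose elements of order `p` are fixed
  point free and few, the orbits on injective quadruples number more than `(p - 3) / 2`.
-/

set_option autoImplicit false
set_option linter.unusedSectionVars false

namespace CfsgLib.PrimeDegreeTwo

open MulAction

variable {G α : Type*} [Group G] [Fintype G] [MulAction G α] [Fintype α] [DecidableEq α]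

theorem card_fixed_tuples (n : ℕ) (g : G) :
    Nat.card (fixedBy (Fin n ↪ α) g) = (Nat.card (fixedBy α g)).descFactorial n := by
  classical
  rw [show (Nat.card (fixedBy α g)).descFactorial n = Nat.card (Fin n ↪ fixedBy α g) by
    rw [Nat.card_eq_fintype_card, Nat.card_eq_fintype_card, Fintype.card_embedding_eq, Fintype.card_fin]]
  refine Nat.card_congr
    { toFun := fun x => ⟨fun i => ⟨x.1 i, ?_⟩, fun i j h => x.1.injective (congrArg Subtype.val h)⟩
      invFun := fun y => ⟨y.trans (Function.Embedding.subtype _), ?_⟩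
      left_inv := fun x => Subtype.ext (Function.Embedding.ext fun i => rfl)
      right_inv := fun y => Function.Embedding.ext fun i => rfl }
  · exact DFunLike.congr_fun x.2 i
  · ext i
    exact (y i).2

theorem sum_descFactorial (n : ℕ) :
    ∑ g : G, (Nat.card (fixedBy α g)).descFactorial n =
      Nat.card (Quotient (orbitRel G (Fin n ↪ α))) * Nat.card G := by
  classical
  rw [Finset.sum_congr rfl fun g _ => (card_fixed_tuples (α := α) n g).symm]
  simp only [Nat.card_eq_fintype_card]
  exact sum_card_fixedBy_eq_card_orbits_mul_card_group G (Fin n ↪ α)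

theorem card_orbits_eq_one (n : ℕ) [IsMultiplyPretransitive G α n] (hn : n ≤ Fintype.card α) :
    Nat.card (Quotient (orbitRel G (Fin n ↪ α))) = 1 := by
  classical
  rw [Nat.card_eq_one_iff_unique]
  refine ⟨⟨fun a b => ?_⟩, ?_⟩
  · obtain ⟨u, rfl⟩ := Quotient.mk_surjective a
    obtain ⟨v, rfl⟩ := Quotient.mk_surjective b
    exact Quotient.sound (orbitRel_apply.mpr (exists_smul_eq G v u))
  · obtain ⟨u⟩ : Nonempty (Fin n ↪ α) :=
      Function.Embedding.nonempty_of_card_le (by rwa [Fintype.card_fin])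
    exact ⟨Quotient.mk _ u⟩

theorem descFactorial_cast {f : ℕ} :
    ((f.descFactorial 1 : ℕ) : ℤ) = f ∧ ((f.descFactorial 2 : ℕ) : ℤ) = f * (f - 1) ∧
      ((f.descFactorial 3 : ℕ) : ℤ) = f * (f - 1) * (f - 2) ∧
      ((f.descFactorial 4 : ℕ) : ℤ) = f * (f - 1) * (f - 2) * (f - 3) := by
  rcases f with _ | _ | _ | _ | f <;>
    simp [Nat.descFactorial_succ, Nat.descFactorial_zero] <;> push_cast <;> ring_nf <;> simp

/-- The main inequality. -/
theorem orbit_bound {p : ℕ} (hp : 5 ≤ p) (hodd : Odd p) (hα : Fintype.card α = p) [FaithfulSMul G α]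
    [IsMultiplyPretransitive G α 1] [IsMultiplyPretransitive G α 2] [IsMultiplyPretransitive G α 3]
    (hfree : ∀ g : G, orderOf g = p → Nat.card (fixedBy α g) = 0)
    (hcount : 2 * p * Nat.card {g : G // orderOf g = p} = (p - 1) * Nat.card G) :
    p ≤ 2 * Nat.card (Quotient (orbitRel G (Fin 4 ↪ α))) + 1 := by
  classical
  set R : ℕ := Nat.card (Quotient (orbitRel G (Fin 4 ↪ α))) with hR
  set g0 : ℤ := (Nat.card G : ℤ) with hg0
  let f : G → ℤ := fun g => (Nat.card (fixedBy α g) : ℤ)
  have h1 : ∑ g : G, f g = g0 := by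
    have h := sum_descFactorial (G := G) (α := α) 1
    rw [card_orbits_eq_one 1 (by omega), one_mul] at h
    have h' := congrArg (Nat.cast : ℕ → ℤ) h
    push_cast at h'
    simp only [descFactorial_cast.1] at h'
    exact h'
  have h2 : ∑ g : G, f g * (f g - 1) = g0 := by
    have h := sum_descFactorial (G := G) (α := α) 2
    rw [card_orbits_eq_one 2 (by omega), one_mul] at h
    have h' := congrArg (Nat.cast : ℕ → ℤ) h
    push_cast at h'
    simp only [descFactorial_cast.2.1] at h'
    exact h'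
  have h3 : ∑ g : G, f g * (f g - 1) * (f g - 2) = g0 := by
    have h := sum_descFactorial (G := G) (α := α) 3
    rw [card_orbits_eq_one 3 (by omega), one_mul] at h
    have h' := congrArg (Nat.cast : ℕ → ℤ) h
    push_cast at h'
    simp only [descFactorial_cast.2.2.1] at h'
    exact h'
  have h4 : ∑ g : G, f g * (f g - 1) * (f g - 2) * (f g - 3) = R * g0 := by
    have h := sum_descFactorial (G := G) (α := α) 4
    rw [← hR] at h
    have h' := congrArg (Nat.cast : ℕ → ℤ) h
    push_cast at h'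
    simp only [descFactorial_cast.2.2.2] at h'
    exact h'
  let θ : G → ℤ := fun g => 2 * f g ^ 2 - ((p : ℤ) + 5) * f g + 2 * p
  have hθ : ∀ g, θ g ^ 2 = 4 * (f g * (f g - 1) * (f g - 2) * (f g - 3)) +
      (24 - 4 * ((p : ℤ) + 5)) * (f g * (f g - 1) * (f g - 2)) +
      (28 - 12 * ((p : ℤ) + 5) + ((p : ℤ) + 5) ^ 2 + 8 * p) * (f g * (f g - 1)) +
      (4 - 4 * ((p : ℤ) + 5) + ((p : ℤ) + 5) ^ 2 + 8 * p - 4 * p * ((p : ℤ) + 5)) * f g +
      4 * (p : ℤ) ^ 2 := fun g => by ring
  have hall : ∑ g : G, θ g ^ 2 = (4 * (R : ℤ) + (24 - 4 * ((p : ℤ) + 5)) +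
      (28 - 12 * ((p : ℤ) + 5) + ((p : ℤ) + 5) ^ 2 + 8 * p) +
      (4 - 4 * ((p : ℤ) + 5) + ((p : ℤ) + 5) ^ 2 + 8 * p - 4 * p * ((p : ℤ) + 5)) +
      4 * (p : ℤ) ^ 2) * g0 := by
    simp only [hθ, Finset.sum_add_distrib, ← Finset.mul_sum, h1, h2, h3, h4, Finset.sum_const,
      Finset.card_univ, nsmul_eq_mul]
    rw [hg0, Nat.card_eq_fintype_card]
    ring
  have hord : 2 * ∑ g ∈ Finset.univ.filter (fun g : G => orderOf g = p), θ g ^ 2 =
      4 * (p : ℤ) * ((p : ℤ) - 1) * g0 := by
    rw [Finset.sum_congr rfl fun g hg => by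
      show θ g ^ 2 = 4 * (p : ℤ) ^ 2
      simp only [θ, f, hfree g (Finset.mem_filter.mp hg).2, Nat.cast_zero]
      ring]
    rw [Finset.sum_const, nsmul_eq_mul, ← Fintype.card_subtype, ← Nat.card_eq_fintype_card]
    have h' := congrArg (Nat.cast : ℕ → ℤ) hcount
    push_cast [Nat.cast_sub (show 1 ≤ p by omega)] at h'
    linear_combination (4 * (p : ℤ)) * h'
  have hreg : 0 < ∑ g ∈ Finset.univ.filter (fun g : G => ¬ orderOf g = p), θ g ^ 2 := by
    refine Finset.sum_pos' (fun g _ => sq_nonneg _)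
      ⟨1, Finset.mem_filter.mpr ⟨Finset.mem_univ _, by rw [orderOf_one]; omega⟩, ?_⟩
    have hf1 : f 1 = p := by
      simp only [f, fixedBy_one_eq_univ, Nat.card_coe_set_eq, Set.ncard_univ]
      rw [Nat.card_eq_fintype_card, hα]
    simp only [θ, hf1]
    have : (5 : ℤ) ≤ p := by exact_mod_cast hp
    have : (0 : ℤ) < 2 * (p : ℤ) ^ 2 - (p + 5) * p + 2 * p := by nlinarith
    positivity
  have hsplit := Finset.sum_filter_add_sum_filter_not Finset.univ (fun g : G => orderOf g = p) (fun g => θ g ^ 2)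
  have hg0pos : 0 < g0 := by rw [hg0]; exact_mod_cast Nat.card_pos
  have hord' : ∑ g ∈ Finset.univ.filter (fun g : G => orderOf g = p), θ g ^ 2 =
      2 * (p : ℤ) * ((p : ℤ) - 1) * g0 := by linarith
  have hfin : 0 < (4 * (R : ℤ) + 6 - 2 * p) * g0 := by
    have : (4 * (R : ℤ) + 6 - 2 * p) * g0 =
        ∑ g ∈ Finset.univ.filter (fun g : G => ¬ orderOf g = p), θ g ^ 2 := by
      linear_combination (norm := ring_nf) -hsplit - hall + hord'
    linarith
  have := pos_of_mul_pos_left hfin hg0pos.le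
  obtain ⟨c, hc⟩ := hodd
  omega

end CfsgLib.PrimeDegreeTwo
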