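import Cfsg.Agent.Lib.PrimeDegreeTwo.Involution
import Cfsg.Agent.Lib.PrimeDegreeTwo.AltSquare
import Cfsg.Agent.Lib.Blocks.FreeInertia.Fourier
import Cfsg.Agent.Lib.Blocks.PrimeGalois
import Mathlib

/-!
# A character of degree `p - 1` and a self-centralising subgroup of order `p` with normaliser of order `2p`

* `exists_exc`: the characters of degree `p - 2`;
* `char_cases'`: the characters not vanishing at `x`;
* `alt_identity`: `v (g ^ 2) = v g * (v g - (p - 3))` for `v = φ - 1` on the elements of order `≠ p`;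
* `values`: the values of `φ`;
* `class_formula`: `p c² (p - 2) = |G| (p - 1)` and all involutions are conjugate.
-/

set_option autoImplicit false
set_option linter.unusedSectionVars false

noncomputable section

namespace CfsgLib.PrimeDegreeTwo

open MulAction CfsgLib.Char Cfsg
open scoped ComplexConjugate Classical

variable {G α : Type*} [Group G] [Fintype G] [MulAction G α] [Fintype α] {p : ℕ} [hp : Fact p.Prime]

/-- A setup with a faithful character of degree `p - 1`. -/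
structure Base (G α : Type*) [Group G] [Fintype G] [MulAction G α] (p : ℕ) where
  S : Setup G α p
  φ : IrrCharacter G
  deg : (φ : G → ℂ) 1 = (p : ℂ) - 1
  val : ∀ u ∈ Subgroup.zpowers S.x, u ≠ 1 → (φ : G → ℂ) u = -1
  faith : ∀ g : G, (φ : G → ℂ) g = (φ : G → ℂ) 1 → g = 1
  five : 5 ≤ p

variable (D : Base G α p)
include D

local notation "P₀" => Subgroup.zpowers D.S.x

theorem Base.x_ne : D.S.x ≠ 1 := fun h => hp.out.ne_one (by rw [← D.S.hx, h, orderOf_one])

theorem Base.theta_one (θ : IrrCharacter P₀) : (θ : P₀ → ℂ) 1 = 1 := irr_one_eq_one_of_comm D.S.comm θ.2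

theorem Base.theta_conj (θ : IrrCharacter P₀) (u : P₀) :
    conj ((θ : P₀ → ℂ) u) = (θ : P₀ → ℂ) u⁻¹ := (char_inv (isCharacter_of_isIrr θ.2) u).symm

theorem Base.sum_theta {θ : IrrCharacter P₀} (hθ : θ ≠ irrOne) : ∑ u : P₀, (θ : P₀ → ℂ) u = 0 := by
  have h := classInner_irr_ne θ.2 irrOne.2 fun h => hθ (Subtype.ext h)
  rw [classInner_def] at h
  have hpC : (p : ℂ) ≠ 0 := Nat.cast_ne_zero.mpr hp.out.ne_zero
  simpa [irrOne_apply, D.S.card_P, hpC] using h

theorem Base.theta_mul (θ : IrrCharacter P₀) (u v : P₀) :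
    (θ : P₀ → ℂ) (u * v) = (θ : P₀ → ℂ) u * (θ : P₀ → ℂ) v :=
  CfsgLib.Blocks.CyclicOrbits.irr_mul D.S.comm θ u v

/-- A character of `P` is determined by its value at `x`. -/
theorem Base.theta_ext {θ θ' : IrrCharacter P₀}
    (h : (θ : P₀ → ℂ) ⟨D.S.x, Subgroup.mem_zpowers _⟩ = (θ' : P₀ → ℂ) ⟨D.S.x, Subgroup.mem_zpowers _⟩) :
    θ = θ' := by
  apply Subtype.ext
  funext u
  obtain ⟨k, hk⟩ := (isOfFinOrder_of_finite D.S.x).mem_powers_iff_mem_zpowers.mpr u.2
  have hu : u = (⟨D.S.x, Subgroup.mem_zpowers _⟩ : P₀) ^ k := Subtype.ext hk.symm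
  subst hu
  clear hk
  induction k with
  | zero => rw [pow_zero, D.theta_one, D.theta_one]
  | succ k ih => rw [pow_succ, D.theta_mul, D.theta_mul, ih, h]

/-- The inverse character. -/
theorem Base.exists_inv (θ : IrrCharacter P₀) :
    ∃ θ' : IrrCharacter P₀, ∀ u, (θ' : P₀ → ℂ) u = (θ : P₀ → ℂ) u⁻¹ := by
  have hm : ∀ a b : P₀, (θ : P₀ → ℂ) (a * b)⁻¹ = (θ : P₀ → ℂ) a⁻¹ * (θ : P₀ → ℂ) b⁻¹ := fun a b => by
    rw [mul_inv_rev, D.S.comm, D.theta_mul]
  exact ⟨⟨_, isIrrCharacter_hom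
    ({ toFun := fun u => (θ : P₀ → ℂ) u⁻¹, map_one' := by rw [inv_one, D.theta_one], map_mul' := hm } :
      P₀ →* ℂ)⟩, fun u => rfl⟩

/-- The square of a character. -/
theorem Base.exists_sq (θ : IrrCharacter P₀) :
    ∃ θ' : IrrCharacter P₀, ∀ u, (θ' : P₀ → ℂ) u = (θ : P₀ → ℂ) u * (θ : P₀ → ℂ) u :=
  ⟨⟨_, isIrrCharacter_hom
    ({ toFun := fun u => (θ : P₀ → ℂ) u * (θ : P₀ → ℂ) u,
       map_one' := by rw [D.theta_one, mul_one],
       map_mul' := fun a b => by simp only [D.theta_mul]; ring } : P₀ →* ℂ)⟩, fun u => rfl⟩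

theorem Base.odd_p : Odd p := hp.out.odd_of_ne_two (by have := D.five; omega)

/-- A character equal to its inverse is trivial. -/
theorem Base.eq_one_of_inv {θ : IrrCharacter P₀}
    (h : ∀ u : P₀, (θ : P₀ → ℂ) u⁻¹ = (θ : P₀ → ℂ) u) : θ = irrOne := by
  apply Subtype.ext
  funext u
  show _ = (irrOne : IrrCharacter P₀).1 u
  rw [irrOne_apply]
  obtain ⟨v, rfl⟩ : ∃ v : P₀, v * v = u := by
    refine ⟨u ^ ((p + 1) / 2), ?_⟩
    obtain ⟨k, hk⟩ := D.odd_p
    have hu : u ^ p = 1 := by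
      have h' := pow_card_eq_one' (G := P₀) (x := u)
      rwa [D.S.card_P] at h'
    rw [← pow_add, show (p + 1) / 2 + (p + 1) / 2 = p + 1 by omega, pow_succ, hu, one_mul]
  rw [D.theta_mul]
  nth_rw 2 [← h v]
  rw [← D.theta_mul, mul_inv_cancel, D.theta_one]

theorem Base.sum_theta_sq {θ : IrrCharacter P₀} (hθ : θ ≠ irrOne) :
    ∑ u : P₀, (θ : P₀ → ℂ) u * (θ : P₀ → ℂ) u = 0 := by
  obtain ⟨θ', hθ'⟩ := D.exists_inv θ
  have hd : θ ≠ θ' := fun h => hθ (D.eq_one_of_inv fun u => by rw [← hθ', ← h])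
  have h := classInner_irr_ne θ.2 θ'.2 fun h => hd (Subtype.ext h)
  rw [classInner_def] at h
  have hpC : (p : ℂ) ≠ 0 := Nat.cast_ne_zero.mpr hp.out.ne_zero
  simp only [hθ', ← D.theta_conj, Complex.conj_conj, D.S.card_P] at h
  exact (mul_eq_zero.mp h).resolve_left (inv_ne_zero hpC)

theorem Base.phi_ne_one : (D.φ : G → ℂ) ≠ fun _ => 1 := fun h => by
  have := congrFun h D.S.x
  rw [D.val _ (Subgroup.mem_zpowers _) D.x_ne] at this
  norm_num at this

/-- The exceptional characters. -/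
theorem Base.exists_exc {θ : IrrCharacter P₀} (hθ : θ ≠ irrOne) :
    ∃ R : IrrCharacter G, (D.S.ind θ = (fun _ => 1) - (D.φ : G → ℂ) + (R : G → ℂ)) ∧
      (R : G → ℂ) 1 = (p : ℂ) - 2 ∧
      (∀ g : G, orderOf g ≠ p → (R : G → ℂ) g = (D.φ : G → ℂ) g - 1) ∧
      ∀ u : P₀, u ≠ 1 → (R : G → ℂ) (u : G) = -(θ : P₀ → ℂ) u - (θ : P₀ → ℂ) u⁻¹ := by
  have hpC : (p : ℂ) ≠ 0 := Nat.cast_ne_zero.mpr hp.out.ne_zero
  set ψ : G → ℂ := (D.φ : G → ℂ) with hψd
  have hψ : IsIrrCharacter G ψ := D.φ.2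
  set I := D.S.ind θ with hI
  have hI1 : classInner I (fun _ : G => 1) = 1 := by
    rw [hI, Setup.ind, frobenius_reciprocity _ _ (isClassFunction_const 1), classInner_def, D.S.card_P]
    simp only [map_one, mul_one, Finset.sum_sub_distrib, D.sum_theta hθ, Finset.sum_const, Finset.card_univ,
      ← Nat.card_eq_fintype_card, D.S.card_P, nsmul_eq_mul, sub_zero]
    field_simp
  have hIψ : classInner I ψ = -1 := by
    rw [hI, Setup.ind, frobenius_reciprocity _ _ (isClassFunction_of_isIrr hψ), classInner_def, D.S.card_P]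
    have hψfun : ∀ u : P₀, (1 - (θ : P₀ → ℂ) u) * conj (ψ u) = -(1 - (θ : P₀ → ℂ) u) := by
      intro u
      by_cases hu : u = 1
      · rw [hu, D.theta_one]; simp
      · rw [hψd, D.val u u.2 fun h => hu (Subtype.ext h)]; simp
    rw [Finset.sum_congr rfl fun u _ => hψfun u, Finset.sum_neg_distrib, Finset.sum_sub_distrib,
      D.sum_theta hθ, Finset.sum_const, Finset.card_univ, ← Nat.card_eq_fintype_card, D.S.card_P]
    simp only [nsmul_eq_mul, mul_one, sub_zero]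
    field_simp
  have hII : classInner I I = 3 := by
    rw [hI]
    conv_lhs => arg 1; rw [Setup.ind]
    rw [frobenius_reciprocity P₀ _ (χ := D.S.ind θ) (isClassFunction_indFun _ _),
      classInner_def, D.S.card_P]
    have hterm : ∀ u : P₀, (1 - (θ : P₀ → ℂ) u) * conj (D.S.ind θ (u : G)) =
        3 - 3 * (θ : P₀ → ℂ) u - (θ : P₀ → ℂ) u⁻¹ + (θ : P₀ → ℂ) u * (θ : P₀ → ℂ) u := by
      intro u
      have hu : (θ : P₀ → ℂ) u * (θ : P₀ → ℂ) u⁻¹ = 1 := by
        rw [← D.theta_mul, mul_inv_cancel, D.theta_one]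
      rw [D.S.ind_apply u.2]
      simp only [map_sub, Complex.conj_ofNat]
      rw [show (⟨((u : G))⁻¹, inv_mem u.2⟩ : P₀) = u⁻¹ from rfl, D.theta_conj, D.theta_conj, inv_inv]
      linear_combination hu
    rw [Finset.sum_congr rfl fun u _ => hterm u, Finset.sum_add_distrib, Finset.sum_sub_distrib,
      Finset.sum_sub_distrib, ← Finset.mul_sum, D.sum_theta hθ, D.sum_theta_sq hθ,
      Fintype.sum_equiv (Equiv.inv P₀) (fun u : P₀ => (θ : P₀ → ℂ) u⁻¹) (θ : P₀ → ℂ) (fun u => rfl),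
      D.sum_theta hθ, Finset.sum_const, Finset.card_univ, ← Nat.card_eq_fintype_card, D.S.card_P]
    simp only [nsmul_eq_mul]
    field_simp
    ring
  set R : G → ℂ := I - (fun _ => 1) + ψ with hR
  have h11 : classInner (fun _ : G => (1 : ℂ)) (fun _ => 1) = 1 := classInner_irr_self isIrrCharacter_one
  have h1ψ : classInner (fun _ : G => (1 : ℂ)) ψ = 0 :=
    classInner_irr_ne isIrrCharacter_one hψ (Ne.symm D.phi_ne_one)
  have hψ1' : classInner ψ (fun _ : G => (1 : ℂ)) = 0 := by rw [← classInner_conj_symm, h1ψ, map_zero]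
  have hRR : classInner R R = 1 := by
    have h1I : classInner (fun _ : G => (1 : ℂ)) I = 1 := by rw [← classInner_conj_symm, hI1, map_one]
    have hψI : classInner ψ I = -1 := by rw [← classInner_conj_symm, hIψ, map_neg, map_one]
    simp only [hR, classInner_add_left, classInner_sub_left, classInner_add_right, classInner_sub_right,
      hI1, hIψ, hII, h11, h1ψ, hψ1', h1I, hψI, classInner_irr_self hψ]
    norm_num
  have hgen : IsGeneralizedCharacter G R := by
    refine isGen_add (isGen_sub (isGen_indFun _ ?_) isGen_one) (isGen_of_irr hψ)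
    exact isGen_sub isGen_one (isGen_of_irr θ.2)
  have hR1 : R 1 = (p : ℂ) - 2 := by
    simp only [hR, hI, Pi.add_apply, Pi.sub_apply, D.S.ind_one, hψd, D.deg]
    ring
  have hRirr : IsIrrCharacter G R := gen_norm_one_pos hgen hRR (by
    rw [hR1]
    have : (5 : ℝ) ≤ p := by exact_mod_cast D.five
    simp only [Complex.sub_re, Complex.natCast_re, Complex.re_ofNat]
    linarith)
  refine ⟨⟨R, hRirr⟩, ?_, hR1, fun g hg => ?_, fun u hu => ?_⟩
  · show I = _ - ψ + R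
    rw [hR]; abel
  · show R g = _
    simp only [hR, hI, Pi.add_apply, Pi.sub_apply, D.S.ind_eq_zero hg, hψd]
    ring
  · show R u = _
    simp only [hR, hI, Pi.add_apply, Pi.sub_apply, D.S.ind_apply u.2, hψd,
      D.val u u.2 fun h => hu (Subtype.ext h)]
    rw [show (⟨((u : G))⁻¹, inv_mem u.2⟩ : P₀) = u⁻¹ from rfl, Subtype.coe_eta]
    ring

/-- The characters not vanishing at `x`. -/
theorem Base.char_cases' (χ : IrrCharacter G) :
    (χ : G → ℂ) D.S.x⁻¹ = 0 ∨ χ = irrOne ∨ χ = D.φ ∨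
      ((χ : G → ℂ) 1 = (p : ℂ) - 2 ∧ ∀ g : G, orderOf g ≠ p → (χ : G → ℂ) g = (D.φ : G → ℂ) g - 1) := by
  by_cases hz : (χ : G → ℂ) D.S.x⁻¹ = 0
  · exact Or.inl hz
  by_cases hone : χ = irrOne
  · exact Or.inr (Or.inl hone)
  by_cases hpsi : χ = D.φ
  · exact Or.inr (Or.inr (Or.inl hpsi))
  refine Or.inr (Or.inr (Or.inr ?_))
  obtain ⟨θ, hθ, hne⟩ : ∃ θ : IrrCharacter P₀, θ ≠ irrOne ∧ classInner (D.S.ind θ) (χ : G → ℂ) ≠ 0 := by
    by_contra hall
    push Not at hall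
    apply hz
    set c := classInner (fun u : P₀ => (χ : G → ℂ) u) ((irrOne : IrrCharacter P₀) : P₀ → ℂ) with hc
    have hcoef : ∀ θ : IrrCharacter P₀, classInner (fun u : P₀ => (χ : G → ℂ) u) (θ : P₀ → ℂ) = c := by
      intro θ
      by_cases hθ : θ = irrOne
      · rw [hθ]
      have h := hall θ hθ
      rw [Setup.ind, frobenius_reciprocity _ _ (isClassFunction_of_isIrr χ.2)] at h
      have h' := congrArg conj h
      rw [classInner_conj_symm, map_zero] at h'
      rw [show (fun u : P₀ => 1 - (θ : P₀ → ℂ) u) = ((irrOne : IrrCharacter P₀) : P₀ → ℂ) - (θ : P₀ → ℂ) from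
        funext fun u => by simp [irrOne_apply], classInner_sub_right, sub_eq_zero] at h'
      rw [← h']
    have hcl : IsClassFunction P₀ (fun u : P₀ => (χ : G → ℂ) u) := fun a b => by
      rw [show b * a * b⁻¹ = a by rw [D.S.comm b a, mul_inv_cancel_right]]
    have hdec := congrFun (classFun_eq_sum hcl) ⟨D.S.x⁻¹, inv_mem (Subgroup.mem_zpowers _)⟩
    simp only [Finset.sum_apply, Pi.smul_apply, smul_eq_mul, hcoef, ← Finset.mul_sum] at hdec
    rw [hdec, CfsgLib.Blocks.CyclicOrbits.sum_irr_apply D.S.comm, mul_zero]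
    exact fun h => D.x_ne (inv_eq_one.mp (congrArg Subtype.val h))
  obtain ⟨R, hR, hR1, hRreg, -⟩ := D.exists_exc hθ
  have hχR : χ = R := by
    by_contra hne'
    apply hne
    rw [hR, classInner_add_left, classInner_sub_left,
      classInner_irr_ne R.2 χ.2 fun h => hne' (Subtype.ext h.symm),
      classInner_irr_ne isIrrCharacter_one χ.2 (fun h => hone (Subtype.ext (h.symm.trans rfl))),
      classInner_irr_ne D.φ.2 χ.2 fun h => hpsi (Subtype.ext h.symm)]
    ring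
  exact ⟨hχR ▸ hR1, hχR ▸ hRreg⟩

/-- Every Sylow `p`-subgroup has order `p`. -/
theorem Base.sylow_card (Q : Sylow p G) : Nat.card (Q : Subgroup G) = p := by
  obtain ⟨R, hR⟩ := (IsPGroup.of_card (n := 1) (by rw [D.S.card_P, pow_one]) : IsPGroup p P₀).exists_le_sylow
  have hxR : D.S.x ∈ (R : Subgroup G) := hR (Subgroup.mem_zpowers _)
  have : Nontrivial (R : Subgroup G) :=
    ⟨⟨D.S.x, hxR⟩, 1, fun h => D.x_ne (congrArg Subtype.val h)⟩
  have := R.isPGroup'.center_nontrivial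
  obtain ⟨z, hz⟩ := exists_ne (1 : Subgroup.center (R : Subgroup G))
  have hzR : ∀ s ∈ (R : Subgroup G), s * (z.1.1 : G) = z.1.1 * s := fun s hs =>
    congrArg Subtype.val (Subgroup.mem_center_iff.1 z.2 ⟨s, hs⟩)
  have hzP : z.1.1 ∈ P₀ := by
    rw [← D.S.hC, Subgroup.mem_centralizer_singleton_iff]
    exact (hzR _ hxR).symm
  have hle : (R : Subgroup G) ≤ P₀ := fun s hs =>
    D.S.cent_of_mem hzP (fun h => hz (Subtype.ext (Subtype.ext h))) (hzR s hs)
  rw [Sylow.card_eq_multiplicity, ← Sylow.card_eq_multiplicity R, le_antisymm hle hR, D.S.card_P]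

theorem Base.exists_conj_mem {u : G} (hu : orderOf u = p) : ∃ c : G, c * u * c⁻¹ ∈ P₀ := by
  obtain ⟨R, hR⟩ := (IsPGroup.of_card (n := 1) (by rw [D.S.card_P, pow_one]) : IsPGroup p P₀).exists_le_sylow
  have hRP : (R : Subgroup G) = P₀ :=
    (Subgroup.eq_of_le_of_card_ge hR (by rw [D.sylow_card, D.S.card_P])).symm
  obtain ⟨Q, hQ⟩ := (IsPGroup.of_card (n := 1) (by rw [Nat.card_zpowers, hu, pow_one]) :
    IsPGroup p (Subgroup.zpowers u)).exists_le_sylow
  obtain ⟨c, hc⟩ := MulAction.exists_smul_eq G Q R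
  refine ⟨c, ?_⟩
  rw [← hRP, ← hc, Sylow.coe_subgroup_smul, Subgroup.mem_pointwise_smul_iff_inv_smul_mem]
  simpa [MulAut.smul_def, mul_assoc] using hQ (Subgroup.mem_zpowers u)

/-- What commutes with an element of order `p` is `1` or has order `p`. -/
theorem Base.orderOf_of_commute {u g : G} (hu : orderOf u = p) (hg : g * u = u * g) :
    g = 1 ∨ orderOf g = p := by
  obtain ⟨c, hc⟩ := D.exists_conj_mem hu
  have h1 : c * u * c⁻¹ ≠ 1 := fun h => by
    rw [conj_eq_one_iff.mp h, orderOf_one] at hu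
    exact hp.out.ne_one hu.symm
  have hmem : c * g * c⁻¹ ∈ P₀ := D.S.cent_of_mem hc h1 (by
    calc c * g * c⁻¹ * (c * u * c⁻¹) = c * (g * u) * c⁻¹ := by group
      _ = c * (u * g) * c⁻¹ := by rw [hg]
      _ = c * u * c⁻¹ * (c * g * c⁻¹) := by group)
  by_cases hg1 : c * g * c⁻¹ = 1
  · exact Or.inl (conj_eq_one_iff.mp hg1)
  · right
    rw [← D.S.order_of_mem hmem hg1]
    exact (SemiconjBy.orderOf_eq c (show SemiconjBy c g (c * g * c⁻¹) by
      show c * g = c * g * c⁻¹ * c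
      rw [inv_mul_cancel_right])).symm ▸ rfl

theorem Base.sq_regular {g : G} (hg : orderOf g ≠ p) : orderOf (g * g) ≠ p := fun h => by
  rcases D.orderOf_of_commute h (show g * (g * g) = g * g * g by rw [mul_assoc]) with h1 | h1
  · rw [h1, one_mul, orderOf_one] at h
    exact hp.out.ne_one h.symm
  · exact hg h1

/-- The values of `φ` are integers. -/
theorem Base.phi_int (g : G) : ∃ m : ℤ, (D.φ : G → ℂ) g = m := by
  refine CfsgLib.Blocks.FreeInertia.exists_int_of_fixed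
    (char_isIntegral (isCharacter_of_isIrr D.φ.2) g) fun σ => ?_
  obtain ⟨χ', hχ'⟩ := CfsgLib.Blocks.PrimeBlock.exists_galois_image σ D.φ
  suffices h : χ' = D.φ by
    have := congrFun hχ' g
    rw [h] at this
    exact this.symm
  have hx : (χ' : G → ℂ) D.S.x⁻¹ = -1 := by
    rw [hχ']
    show σ _ = _
    rw [D.val _ (inv_mem (Subgroup.mem_zpowers _)) (fun h => D.x_ne (inv_eq_one.mp h)), map_neg, map_one]
  have h1 : (χ' : G → ℂ) 1 = (p : ℂ) - 1 := by
    rw [hχ']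
    show σ _ = _
    rw [D.deg, map_sub, map_natCast, map_one]
  rcases D.char_cases' χ' with h | h | h | ⟨h, -⟩
  · rw [h] at hx; norm_num at hx
  · rw [h, irrOne_apply] at hx; norm_num at hx
  · exact h
  · rw [h] at h1
    exact absurd (show (1 : ℂ) = 0 by linear_combination -h1) one_ne_zero

/-- The identity given by the alternating square. -/
theorem Base.alt_identity {g : G} (hg : orderOf g ≠ p) :
    ((D.φ : G → ℂ) (g * g) - 1) =
      ((D.φ : G → ℂ) g - 1) * (((D.φ : G → ℂ) g - 1) - ((p : ℂ) - 3)) := by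
  have hp5 := D.five
  have hpC : (p : ℂ) ≠ 0 := Nat.cast_ne_zero.mpr hp.out.ne_zero
  set xP : P₀ := ⟨D.S.x, Subgroup.mem_zpowers _⟩ with hxP
  -- the exceptional family
  have hall : ∀ θ : IrrCharacter P₀, ∃ R : IrrCharacter G, θ ≠ irrOne →
      (D.S.ind θ = (fun _ => 1) - (D.φ : G → ℂ) + (R : G → ℂ)) ∧
      (R : G → ℂ) 1 = (p : ℂ) - 2 ∧
      (∀ g : G, orderOf g ≠ p → (R : G → ℂ) g = (D.φ : G → ℂ) g - 1) ∧
      ∀ u : P₀, u ≠ 1 → (R : G → ℂ) (u : G) = -(θ : P₀ → ℂ) u - (θ : P₀ → ℂ) u⁻¹ := fun θ => by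
    by_cases h : θ = irrOne
    · exact ⟨D.φ, fun h' => absurd h h'⟩
    · obtain ⟨R, hR⟩ := D.exists_exc h
      exact ⟨R, fun _ => hR⟩
  choose E hE using hall
  have hcard : Fintype.card (IrrCharacter P₀) = p := by
    rw [← Nat.card_eq_fintype_card, CfsgLib.Blocks.CyclicOrbits.card_irr_of_comm D.S.comm, D.S.card_P]
  obtain ⟨θ₀, hθ₀⟩ : ∃ θ : IrrCharacter P₀, θ ≠ irrOne :=
    Fintype.exists_ne_of_one_lt_card (by rw [hcard]; omega) _
  obtain ⟨θ₂, hθ₂⟩ := D.exists_sq θ₀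
  obtain ⟨θ₂', hθ₂'⟩ := D.exists_inv θ₂
  have hθ₂1 : θ₂ ≠ irrOne := fun h => hθ₀ (D.eq_one_of_inv fun u => by
    have h2 : (θ₀ : P₀ → ℂ) u * (θ₀ : P₀ → ℂ) u = 1 := by rw [← hθ₂, h, irrOne_apply]
    have h3 : (θ₀ : P₀ → ℂ) u * (θ₀ : P₀ → ℂ) u⁻¹ = 1 := by rw [← D.theta_mul, mul_inv_cancel, D.theta_one]
    exact mul_left_cancel₀ (fun h0 => by simp [h0] at h2) (h3.trans h2.symm))
  have hθ₂'1 : θ₂' ≠ irrOne := fun h => hθ₂1 (by
    apply Subtype.ext
    funext u
    have := hθ₂' u⁻¹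
    rw [inv_inv, h, irrOne_apply] at this
    show _ = (irrOne : IrrCharacter P₀).1 u
    rw [← this, irrOne_apply])
  have hne22 : θ₂ ≠ θ₂' := fun h => hθ₂1 (D.eq_one_of_inv fun u => by rw [← hθ₂', ← h])
  set T : Finset (IrrCharacter P₀) := ((Finset.univ.erase irrOne).erase θ₂).erase θ₂' with hT
  have hTcard : T.card = p - 3 := by
    rw [hT, Finset.card_erase_of_mem (by simp [hne22.symm, hθ₂'1]),
      Finset.card_erase_of_mem (by simp [hθ₂1]), Finset.card_erase_of_mem (by simp), Finset.card_univ, hcard]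
    omega
  have hTmem : ∀ θ ∈ T, θ ≠ irrOne ∧ θ ≠ θ₂ ∧ θ ≠ θ₂' := fun θ hθ => by
    simp only [hT, Finset.mem_erase] at hθ
    exact ⟨hθ.2.2.1, hθ.2.1, hθ.1⟩
  set A : G → ℂ := fun g => ((E θ₀ : G → ℂ) g * (E θ₀ : G → ℂ) g - (E θ₀ : G → ℂ) (g * g)) / 2 with hA
  have hAchar : IsCharacter G A := isCharacter_altSquare (isCharacter_of_isIrr (E θ₀).2)
  -- `A` on `P`
  have hAP : ∀ u : P₀, u ≠ 1 → A (u : G) = 1 + (θ₂ : P₀ → ℂ) u + (θ₂ : P₀ → ℂ) u⁻¹ := by
    intro u hu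
    obtain ⟨-, -, -, hval⟩ := hE θ₀ hθ₀
    have huu : u * u ≠ 1 := fun h => by
      have h1 : orderOf u ∣ 2 := orderOf_dvd_of_pow_eq_one (by rw [pow_two, h])
      have h2 : orderOf u = p := by
        rw [← Subgroup.orderOf_coe]; exact D.S.order_of_mem u.2 fun h => hu (Subtype.ext h)
      rw [h2] at h1
      have := Nat.le_of_dvd two_pos h1
      omega
    have h3 : (θ₀ : P₀ → ℂ) u * (θ₀ : P₀ → ℂ) u⁻¹ = 1 := by rw [← D.theta_mul, mul_inv_cancel, D.theta_one]
    simp only [hA]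
    rw [← Subgroup.coe_mul, hval u hu, hval (u * u) huu, mul_inv_rev, D.theta_mul, D.theta_mul, hθ₂, hθ₂]
    linear_combination h3
  -- multiplicities
  have hmult : ∀ θ : IrrCharacter P₀, θ ≠ irrOne →
      classInner A (fun _ => 1) - classInner A (D.φ : G → ℂ) + classInner A (E θ : G → ℂ) =
        1 - (if θ = θ₂ then 1 else 0) - (if θ = θ₂' then 1 else 0) := by
    intro θ hθ
    obtain ⟨hind, -, -, -⟩ := hE θ hθ
    rw [← classInner_sub_right, ← classInner_add_right, ← hind, Setup.ind,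
      frobenius_reciprocity' _ _ (isClassFunction_of_isCharacter hAchar)]
    have hfun : classInner (fun u : P₀ => A (u : G)) (fun u => 1 - (θ : P₀ → ℂ) u) =
        classInner (((irrOne : IrrCharacter P₀) : P₀ → ℂ) + (θ₂ : P₀ → ℂ) + (θ₂' : P₀ → ℂ))
          (((irrOne : IrrCharacter P₀) : P₀ → ℂ) - (θ : P₀ → ℂ)) := by
      rw [classInner_def, classInner_def]
      congr 1
      refine Finset.sum_congr rfl fun u _ => ?_
      simp only [Pi.sub_apply, Pi.add_apply, irrOne_apply]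
      by_cases hu : u = 1
      · rw [hu, D.theta_one]; simp
      · rw [hAP u hu, hθ₂']
    rw [hfun]
    simp only [classInner_add_left, classInner_sub_right, classInner_irrCharacter,
      Ne.symm hθ, hθ₂1, hθ₂'1, if_true, if_false]
    simp only [eq_comm (a := θ₂), eq_comm (a := θ₂')]
    ring
  -- the fibres of `E`
  have hfib : ∀ θ θ', θ ≠ irrOne → θ' ≠ irrOne → E θ' = E θ →
      (θ' = θ ∨ ∀ u, (θ' : P₀ → ℂ) u = (θ : P₀ → ℂ) u⁻¹) := by
    intro θ θ' hθ hθ' h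
    obtain ⟨-, -, -, hv⟩ := hE θ hθ
    obtain ⟨-, -, -, hv'⟩ := hE θ' hθ'
    have hx1 : xP ≠ 1 := fun h => D.x_ne (congrArg Subtype.val h)
    have he := hv' xP hx1
    rw [h, hv xP hx1] at he
    have hab : (θ : P₀ → ℂ) xP * (θ : P₀ → ℂ) xP⁻¹ = 1 := by rw [← D.theta_mul, mul_inv_cancel, D.theta_one]
    have hab' : (θ' : P₀ → ℂ) xP * (θ' : P₀ → ℂ) xP⁻¹ = 1 := by rw [← D.theta_mul, mul_inv_cancel, D.theta_one]
    have hprod : ((θ' : P₀ → ℂ) xP - (θ : P₀ → ℂ) xP) * ((θ' : P₀ → ℂ) xP - (θ : P₀ → ℂ) xP⁻¹) = 0 := by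
      linear_combination ((θ' : P₀ → ℂ) xP) * he + hab - hab'
    rcases mul_eq_zero.mp hprod with h' | h'
    · exact Or.inl (D.theta_ext (sub_eq_zero.mp h'))
    · right
      obtain ⟨θi, hθi⟩ := D.exists_inv θ
      have : θ' = θi := D.theta_ext (by rw [hθi]; exact sub_eq_zero.mp h')
      intro u
      rw [this, hθi]
  have hAnat : ∀ χ : IrrCharacter G, ∃ k : ℕ, classInner A (χ : G → ℂ) = k := fun χ =>
    classInner_char_nat hAchar (isCharacter_of_isIrr χ.2)
  choose mA hmA using hAnat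
  have hcount : ∀ χ : IrrCharacter G, (T.filter fun θ => E θ = χ).card ≤ 2 * mA χ := by
    intro χ
    rcases (T.filter fun θ => E θ = χ).eq_empty_or_nonempty with h | ⟨θ, hθ⟩
    · simp [h]
    obtain ⟨hθT, hθχ⟩ := Finset.mem_filter.mp hθ
    obtain ⟨h1, h2, h2'⟩ := hTmem θ hθT
    have hm := hmult θ h1
    have hm2 := hmult θ₂ hθ₂1
    rw [if_neg h2, if_neg h2', hmA irrOne |> fun e => (show classInner A (fun _ => 1) = _ from e), hmA, hmA] at hm
    rw [if_pos rfl, if_neg hne22, hmA irrOne |> fun e => (show classInner A (fun _ => 1) = _ from e), hmA,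
      hmA] at hm2
    have hm' : (mA (E θ) : ℂ) = ((mA (E θ₂) + 1 : ℕ) : ℂ) := by
      push_cast
      linear_combination hm - hm2
    have hge : 1 ≤ mA χ := by rw [← hθχ, Nat.cast_inj.mp hm']; omega
    obtain ⟨θi, hθi⟩ := D.exists_inv θ
    have hsub : (T.filter fun θ' => E θ' = χ) ⊆ {θ, θi} := by
      intro θ' hθ'
      obtain ⟨hθ'T, hθ'χ⟩ := Finset.mem_filter.mp hθ'
      rcases hfib θ θ' h1 (hTmem θ' hθ'T).1 (hθ'χ.trans hθχ.symm) with h | h
      · simp [h]
      · simp [show θ' = θi from Subtype.ext (funext fun u => by rw [h u, hθi u])]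
    have := Finset.card_le_card hsub
    have := (Finset.card_le_two : ({θ, θi} : Finset (IrrCharacter P₀)).card ≤ 2)
    omega
  -- the difference vanishes
  have hE1 : ∀ θ ∈ T, (E θ : G → ℂ) 1 = (p : ℂ) - 2 := fun θ hθ => (hE θ (hTmem θ hθ).1).2.1
  set Δ : IrrCharacter G → ℕ := fun χ => 2 * mA χ - (T.filter fun θ => E θ = χ).card with hΔ
  have hA1 : A 1 = ((p : ℂ) - 2) * ((p : ℂ) - 3) / 2 := by
    simp only [hA, mul_one, (hE θ₀ hθ₀).2.1]
    ring
  have hdecA : ∀ g, A g = ∑ χ : IrrCharacter G, (mA χ : ℂ) * (χ : G → ℂ) g := fun g => by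
    have h := congrFun (classFun_eq_sum (isClassFunction_of_isCharacter hAchar)) g
    simpa only [Finset.sum_apply, Pi.smul_apply, smul_eq_mul, hmA] using h
  have hdecT : ∀ g, ∑ θ ∈ T, (E θ : G → ℂ) g =
      ∑ χ : IrrCharacter G, ((T.filter fun θ => E θ = χ).card : ℂ) * (χ : G → ℂ) g := fun g => by
    rw [← Finset.sum_fiberwise T E]
    refine Finset.sum_congr rfl fun χ _ => ?_
    rw [Finset.sum_congr rfl fun θ hθ => by rw [(Finset.mem_filter.mp hθ).2], Finset.sum_const, nsmul_eq_mul]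
  have hdec : ∀ g, 2 * A g - ∑ θ ∈ T, (E θ : G → ℂ) g =
      ∑ χ : IrrCharacter G, (Δ χ : ℂ) * (χ : G → ℂ) g := fun g => by
    rw [hdecA, hdecT, Finset.mul_sum, ← Finset.sum_sub_distrib]
    refine Finset.sum_congr rfl fun χ _ => ?_
    simp only [hΔ]
    rw [Nat.cast_sub (hcount χ)]
    push_cast
    ring
  have hzero : ∀ χ, Δ χ = 0 := by
    have h := hdec 1
    rw [Finset.sum_congr rfl fun θ hθ => hE1 θ hθ, Finset.sum_const, hTcard, hA1, nsmul_eq_mul,
      Nat.cast_sub (show 3 ≤ p by omega)] at h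
    have hdeg : ∀ χ : IrrCharacter G, ∃ d : ℕ, 0 < d ∧ (χ : G → ℂ) 1 = d := fun χ => exists_degree_pos χ.2
    choose d hd0 hd using hdeg
    have hsum : ((∑ χ, Δ χ * d χ : ℕ) : ℂ) = 0 := by
      push_cast
      simp only [← hd]
      rw [← h]
      push_cast
      ring
    intro χ
    have := Finset.sum_eq_zero_iff.mp (Nat.cast_eq_zero.mp hsum) χ (Finset.mem_univ χ)
    exact (mul_eq_zero.mp this).resolve_right (hd0 χ).ne'
  have hfin := hdec g
  simp only [hzero, Nat.cast_zero, zero_mul, Finset.sum_const_zero] at hfin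
  rw [Finset.sum_congr rfl fun θ hθ => (hE θ (hTmem θ hθ).1).2.2.1 g hg, Finset.sum_const, hTcard,
    nsmul_eq_mul, Nat.cast_sub (show 3 ≤ p by omega)] at hfin
  simp only [hA, (hE θ₀ hθ₀).2.2.1 g hg, (hE θ₀ hθ₀).2.2.1 (g * g) (D.sq_regular hg)] at hfin
  push_cast at hfin
  linear_combination -hfin

/-- The possible values of `φ` on the elements of order `≠ p`. -/
theorem Base.values {g : G} (hg : orderOf g ≠ p) (h1 : g ≠ 1) :
    ((D.φ : G → ℂ) g = 0 ∧ g * g = 1) ∨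
      ((g * g ≠ 1) ∧ ((D.φ : G → ℂ) g = 1 ∨ (D.φ : G → ℂ) g = (p : ℂ) - 2 ∨
        (p = 5 ∧ (D.φ : G → ℂ) g = 2))) := by
  have hp5 : (5 : ℤ) ≤ p := by exact_mod_cast D.five
  obtain ⟨m, hm⟩ := D.phi_int g
  obtain ⟨m', hm'⟩ := D.phi_int (g * g)
  have hid := D.alt_identity hg
  rw [hm, hm'] at hid
  have hidZ : m' - 1 = (m - 1) * ((m - 1) - ((p : ℤ) - 3)) := by
    have h : ((m' - 1 : ℤ) : ℂ) = (((m - 1) * ((m - 1) - ((p : ℤ) - 3)) : ℤ) : ℂ) := by
      push_cast; exact hid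
    exact_mod_cast h
  have hbound : ∀ (w : G) (n : ℤ), (D.φ : G → ℂ) w = n → n ≤ (p : ℤ) - 1 ∧ -((p : ℤ) - 1) ≤ n := by
    intro w n hn
    have h := norm_char_le (isCharacter_of_isIrr D.φ.2) w
    rw [D.deg, hn, Complex.norm_intCast] at h
    simp only [Complex.sub_re, Complex.natCast_re, Complex.one_re] at h
    have h' : ((|n| : ℤ) : ℝ) ≤ (((p : ℤ) - 1 : ℤ) : ℝ) := by push_cast; exact h
    have := abs_le.mp (Int.cast_le.mp h')
    omega
  obtain ⟨hb1, hb2⟩ := hbound g m hm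
  obtain ⟨hb1', hb2'⟩ := hbound (g * g) m' hm'
  have hfull : ∀ (w : G) (n : ℤ), (D.φ : G → ℂ) w = n → n = (p : ℤ) - 1 → w = 1 := fun w n hn h =>
    D.faith w (by rw [D.deg, hn, h]; push_cast; rfl)
  have hm_lt : m < (p : ℤ) - 1 := lt_of_le_of_ne hb1 fun h => h1 (hfull g m hm h)
  have hm_ge : 0 ≤ m := by
    by_contra hlt
    push Not at hlt
    nlinarith
  rcases hm_ge.eq_or_lt with h0 | h0
  · left
    refine ⟨by rw [hm, ← h0, Int.cast_zero], hfull _ m' hm' (by rw [← h0] at hidZ; linarith)⟩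
  right
  have hgg : g * g ≠ 1 := fun h => by
    rw [h, D.deg] at hm'
    have : m' = (p : ℤ) - 1 := by
      have h' : ((m' : ℤ) : ℂ) = (((p : ℤ) - 1 : ℤ) : ℂ) := by push_cast; exact hm'.symm
      exact_mod_cast h'
    rw [this] at hidZ
    have : (m - 1 + 1) * (m - 1 - ((p : ℤ) - 2)) = 0 := by linarith
    rcases mul_eq_zero.mp this with h | h <;> omega
  refine ⟨hgg, ?_⟩
  have hm'pos : 0 ≤ m' := by
    by_contra hlt
    push Not at hlt
    obtain ⟨m'', hm''⟩ := D.phi_int (g * g * (g * g))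
    have hid2 := D.alt_identity (D.sq_regular hg)
    rw [hm', hm''] at hid2
    have hidZ2 : m'' - 1 = (m' - 1) * ((m' - 1) - ((p : ℤ) - 3)) := by
      have h : ((m'' - 1 : ℤ) : ℂ) = (((m' - 1) * ((m' - 1) - ((p : ℤ) - 3)) : ℤ) : ℂ) := by
        push_cast; exact hid2
      exact_mod_cast h
    have := (hbound _ m'' hm'').1
    nlinarith
  rcases (show m = 1 ∨ m = (p : ℤ) - 2 ∨ (2 ≤ m ∧ m ≤ (p : ℤ) - 3) by omega) with h | h | ⟨h, h'⟩
  · exact Or.inl (by rw [hm, h, Int.cast_one])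
  · exact Or.inr (Or.inl (by rw [hm, h]; push_cast; rfl))
  · right; right
    have h5 : ((p : ℤ) - 2 - m) * (m - 1) ≤ 1 := by nlinarith
    have hm2 : m = 2 := by nlinarith
    subst hm2
    have : (p : ℤ) = 5 := by nlinarith
    exact ⟨by exact_mod_cast this, by rw [hm]; norm_num⟩

theorem Base.phi_involution {z : G} (hz : z * z = 1) (h1 : z ≠ 1) : (D.φ : G → ℂ) z = 0 := by
  have hzp : orderOf z ≠ p := by
    intro h
    have := Nat.le_of_dvd two_pos (h ▸ orderOf_dvd_of_pow_eq_one (show z ^ 2 = 1 by rw [pow_two, hz]))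
    have := D.five
    omega
  rcases D.values hzp h1 with ⟨h, -⟩ | ⟨h, -⟩
  · exact h
  · exact absurd hz h

/-- The number of pairs of conjugates of an involution with product `x`. -/
theorem Base.pairs_eq {z : G} (hz : z * z = 1) (h1 : z ≠ 1) :
    ((Finset.univ.filter fun gw : G × G =>
      gw.1 * z * gw.1⁻¹ * (gw.2 * z * gw.2⁻¹) = D.S.x).card : ℂ) * ((p : ℂ) - 2) =
      (Nat.card G : ℂ) * ((p : ℂ) - 1) := by
  have hp5 := D.five
  have h := CfsgLib.Blocks.card_pairs z z D.S.x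
  have hzp : orderOf z ≠ p := by
    intro h
    have := Nat.le_of_dvd two_pos (h ▸ orderOf_dvd_of_pow_eq_one (show z ^ 2 = 1 by rw [pow_two, hz]))
    omega
  have hφz := D.phi_involution hz h1
  have hx1 : D.S.x⁻¹ ≠ 1 := fun h => D.x_ne (inv_eq_one.mp h)
  have hord := sum_degree_mul_apply (G := G) D.S.x⁻¹
  rw [if_neg hx1] at hord
  have hφone : D.φ ≠ irrOne := fun h => D.phi_ne_one (congrArg Subtype.val h)
  set rest : Finset (IrrCharacter G) := (Finset.univ.erase irrOne).erase D.φ with hrest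
  have hsplit : ∀ F : IrrCharacter G → ℂ, ∑ χ, F χ = F irrOne + F D.φ + ∑ χ ∈ rest, F χ := by
    intro F
    rw [← Finset.add_sum_erase _ _ (Finset.mem_univ irrOne),
      ← Finset.add_sum_erase _ _ (Finset.mem_erase.mpr ⟨hφone, Finset.mem_univ D.φ⟩), add_assoc]
  have hp2C : (p : ℂ) - 2 ≠ 0 := by
    intro h
    have : (p : ℂ) = (2 : ℕ) := by push_cast; linear_combination h
    have : p = 2 := by exact_mod_cast this
    omega
  have hcases : ∀ χ ∈ rest,
      (χ : G → ℂ) 1 * (χ : G → ℂ) D.S.x⁻¹ = ((p : ℂ) - 2) * (χ : G → ℂ) D.S.x⁻¹ ∧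
      (χ : G → ℂ) z * (χ : G → ℂ) z * (χ : G → ℂ) D.S.x⁻¹ / (χ : G → ℂ) 1 =
        1 / ((p : ℂ) - 2) * (χ : G → ℂ) D.S.x⁻¹ := by
    intro χ hχ
    rcases D.char_cases' χ with h | h | h | ⟨hd, hreg⟩
    · simp [h]
    · exact absurd h (Finset.mem_erase.mp (Finset.mem_erase.mp hχ).2).1
    · exact absurd h (Finset.mem_erase.mp hχ).1
    · rw [hd, hreg z hzp, hφz]
      exact ⟨rfl, by ring⟩
  rw [hsplit, Finset.sum_congr rfl fun χ hχ => (hcases χ hχ).1, ← Finset.mul_sum] at hord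
  rw [hsplit, Finset.sum_congr rfl fun χ hχ => (hcases χ hχ).2, ← Finset.mul_sum] at h
  simp only [irrOne_apply, hφz, D.deg, D.val _ (inv_mem (Subgroup.mem_zpowers _)) hx1] at hord h
  set T := ∑ χ ∈ rest, (χ : G → ℂ) D.S.x⁻¹ with hT
  have hT1 : T = 1 := mul_left_cancel₀ hp2C (by linear_combination hord)
  rw [h, hT1]
  field_simp
  ring

theorem Base.outside {a : G} (ha : a * D.S.x * a⁻¹ = D.S.x⁻¹) :
    a ∈ Subgroup.normalizer (P₀ : Set G) ∧ a ∉ P₀ := by
  refine ⟨?_, fun haP => ?_⟩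
  · rw [← inv_mem_iff]
    exact D.S.mem_normalizer (Subgroup.mem_zpowers _) D.x_ne (by
      rw [inv_inv, ha]; exact inv_mem (Subgroup.mem_zpowers _))
  · have hc : a * D.S.x = D.S.x * a := congrArg Subtype.val (D.S.comm ⟨a, haP⟩ ⟨_, Subgroup.mem_zpowers _⟩)
    rw [hc, mul_inv_cancel_right] at ha
    have h1 := orderOf_dvd_of_pow_eq_one (show D.S.x ^ 2 = 1 by
      rw [pow_two]; nth_rw 2 [ha]; exact mul_inv_cancel _)
    rw [D.S.hx] at h1
    have := Nat.le_of_dvd two_pos h1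
    have := D.five
    omega

theorem Base.sq_outside {a : G} (ha : a ∈ Subgroup.normalizer (P₀ : Set G)) (haP : a ∉ P₀) :
    a * a = 1 ∧ a ≠ 1 := by
  refine ⟨?_, fun h => haP (h ▸ one_mem _)⟩
  by_contra hne
  have hidx : ((P₀).subgroupOf (Subgroup.normalizer (P₀ : Set G))).index = 2 := by
    have h := Subgroup.card_mul_index ((P₀).subgroupOf (Subgroup.normalizer (P₀ : Set G)))
    rw [Nat.card_congr (Subgroup.subgroupOfEquivOfLe D.S.le_normalizer).toEquiv, D.S.card_P, D.S.hN,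
      mul_comm 2 p] at h
    exact Nat.eq_of_mul_eq_mul_left hp.out.pos h
  have h2 := Subgroup.sq_mem_of_index_two hidx ⟨a, ha⟩
  rw [Subgroup.mem_subgroupOf] at h2
  have h3 : a * a ∈ P₀ := by simpa [pow_two] using h2
  exact haP (D.S.cent_of_mem h3 hne (by rw [mul_assoc]))

theorem Base.conj_outside {a b : G} (ha : a ∈ Subgroup.normalizer (P₀ : Set G)) (haP : a ∉ P₀)
    (hb : b ∈ Subgroup.normalizer (P₀ : Set G)) (hbP : b ∉ P₀) : IsConj a b := by
  have hidx : ((P₀).subgroupOf (Subgroup.normalizer (P₀ : Set G))).index = 2 := by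
    have h := Subgroup.card_mul_index ((P₀).subgroupOf (Subgroup.normalizer (P₀ : Set G)))
    rw [Nat.card_congr (Subgroup.subgroupOfEquivOfLe D.S.le_normalizer).toEquiv, D.S.card_P, D.S.hN,
      mul_comm 2 p] at h
    exact Nat.eq_of_mul_eq_mul_left hp.out.pos h
  have hu : a⁻¹ * b ∈ P₀ := by
    have h := Subgroup.mul_mem_iff_of_index_two hidx (a := (⟨a, ha⟩ : Subgroup.normalizer (P₀ : Set G))⁻¹)
      (b := ⟨b, hb⟩)
    simp only [Subgroup.mem_subgroupOf, Subgroup.coe_mul, Subgroup.coe_inv, inv_mem_iff, haP, hbP] at h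
    exact h.mpr trivial
  set u := a⁻¹ * b with hu'
  set w := u ^ ((p + 1) / 2) with hw
  have hwP : w ∈ P₀ := pow_mem hu _
  have hww : w * w = u := by
    obtain ⟨k, hk⟩ := D.odd_p
    have hup : u ^ p = 1 := by
      have h' := congrArg Subtype.val (pow_card_eq_one' (G := P₀) (x := ⟨u, hu⟩))
      rw [D.S.card_P] at h'
      simpa using h'
    rw [hw, ← pow_add, show (p + 1) / 2 + (p + 1) / 2 = p + 1 by omega, pow_succ, hup, one_mul]
  refine isConj_iff.mpr ⟨w⁻¹, ?_⟩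
  have hinv := D.S.inverts ha haP (inv_mem hwP)
  rw [inv_inv] at hinv
  calc w⁻¹ * a * w⁻¹⁻¹ = a * (a⁻¹ * w⁻¹ * a) * w := by group
    _ = a * (w * w) := by rw [hinv, mul_assoc]
    _ = b := by rw [hww, hu', mul_inv_cancel_left]

/-- All involutions are conjugate and `p c ^ 2 (p - 2) = |G| (p - 1)`. -/
theorem Base.class_formula {t : G} (ht : t * t = 1) (ht1 : t ≠ 1) :
    (∀ z : G, z * z = 1 → z ≠ 1 → IsConj t z) ∧
      (p : ℂ) * (Nat.card (Subgroup.centralizer ({t} : Set G)) : ℂ) ^ 2 * ((p : ℂ) - 2) =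
        (Nat.card G : ℂ) * ((p : ℂ) - 1) := by
  have hp5 := D.five
  have hne : ∀ z : G, z * z = 1 → z ≠ 1 →
      ∃ a : G, a ∈ Subgroup.normalizer (P₀ : Set G) ∧ a ∉ P₀ ∧ IsConj z a := by
    intro z hz hz1
    have h := D.pairs_eq hz hz1
    obtain ⟨gw, hgw⟩ : (Finset.univ.filter fun gw : G × G =>
        gw.1 * z * gw.1⁻¹ * (gw.2 * z * gw.2⁻¹) = D.S.x).Nonempty := by
      rw [← Finset.card_pos]
      by_contra h0
      rw [show (Finset.univ.filter fun gw : G × G =>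
        gw.1 * z * gw.1⁻¹ * (gw.2 * z * gw.2⁻¹) = D.S.x).card = 0 by omega, Nat.cast_zero, zero_mul] at h
      have hp1 : (p : ℂ) - 1 ≠ 0 := by
        intro h'
        have : (p : ℂ) = (1 : ℕ) := by push_cast; linear_combination h'
        exact hp.out.ne_one (by exact_mod_cast this)
      exact mul_ne_zero (card_ne_zero' (G := G)) hp1 h.symm
    obtain ⟨-, hgw⟩ := Finset.mem_filter.mp hgw
    set a := gw.1 * z * gw.1⁻¹ with hA
    set b := gw.2 * z * gw.2⁻¹ with hB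
    have haa : a * a = 1 := by
      calc a * a = gw.1 * (z * z) * gw.1⁻¹ := by rw [hA]; group
        _ = 1 := by rw [hz, mul_one, mul_inv_cancel]
    have hbb : b * b = 1 := by
      calc b * b = gw.2 * (z * z) * gw.2⁻¹ := by rw [hB]; group
        _ = 1 := by rw [hz, mul_one, mul_inv_cancel]
    have hinv : a * D.S.x * a⁻¹ = D.S.x⁻¹ := by
      have hab : (a * b)⁻¹ = b * a := inv_eq_of_mul_eq_one_right (by
        rw [mul_assoc, ← mul_assoc b b a, hbb, one_mul, haa])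
      rw [← hgw, hab, inv_eq_of_mul_eq_one_right haa, ← mul_assoc a a b, haa, one_mul]
    obtain ⟨h1, h2⟩ := D.outside hinv
    exact ⟨a, h1, h2, isConj_iff.mpr ⟨gw.1, hA.symm⟩⟩
  obtain ⟨a₀, ha₀, ha₀P, hta₀⟩ := hne t ht ht1
  refine ⟨fun z hz hz1 => ?_, ?_⟩
  · obtain ⟨a, ha, haP, hza⟩ := hne z hz hz1
    exact hta₀.trans ((D.conj_outside ha₀ ha₀P ha haP).trans hza.symm)
  have hbx : ∀ a : {a : G // a ∈ Subgroup.normalizer (P₀ : Set G) ∧ a ∉ P₀},
      (a : G) * D.S.x ∈ Subgroup.normalizer (P₀ : Set G) ∧ (a : G) * D.S.x ∉ P₀ := fun a =>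
    ⟨mul_mem a.2.1 (D.S.le_normalizer (Subgroup.mem_zpowers _)),
      fun h => a.2.2 ((P₀).mul_mem_cancel_right (Subgroup.mem_zpowers _) |>.mp h)⟩
  have hfibre : ∀ a : G, IsConj t a → Nat.card {g : G // g * t * g⁻¹ = a} =
      Nat.card (Subgroup.centralizer ({t} : Set G)) := by
    intro a hta
    obtain ⟨c, hc⟩ := isConj_iff.mp hta
    refine Nat.card_congr
      { toFun := fun g => ⟨c⁻¹ * (g : G), ?_⟩
        invFun := fun d => ⟨c * (d : G), ?_⟩
        left_inv := fun g => Subtype.ext (by simp)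
        right_inv := fun d => Subtype.ext (by simp) }
    · refine Subgroup.mem_centralizer_singleton_iff.mpr ?_
      calc c⁻¹ * (g : G) * t = c⁻¹ * ((g : G) * t * (g : G)⁻¹) * g := by group
        _ = c⁻¹ * (c * t * c⁻¹) * g := by rw [g.2, hc]
        _ = t * (c⁻¹ * g) := by group
    · show c * (d : G) * t * (c * (d : G))⁻¹ = a
      rw [← hc]
      have hd : (d : G) * t = t * d := Subgroup.mem_centralizer_singleton_iff.mp d.2
      calc c * (d : G) * t * (c * (d : G))⁻¹ = c * ((d : G) * t) * (d : G)⁻¹ * c⁻¹ := by group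
        _ = c * (t * d) * (d : G)⁻¹ * c⁻¹ := by rw [hd]
        _ = c * t * c⁻¹ := by group
  let f : {gw : G × G // gw.1 * t * gw.1⁻¹ * (gw.2 * t * gw.2⁻¹) = D.S.x} →
      Σ a : {a : G // a ∈ Subgroup.normalizer (P₀ : Set G) ∧ a ∉ P₀},
        {g : G // g * t * g⁻¹ = a} × {g : G // g * t * g⁻¹ = (a : G) * D.S.x} := fun gw =>
    ⟨⟨gw.1.1 * t * gw.1.1⁻¹, by
      set a := gw.1.1 * t * gw.1.1⁻¹ with hA
      set b := gw.1.2 * t * gw.1.2⁻¹ with hB
      have haa : a * a = 1 := by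
        calc a * a = gw.1.1 * (t * t) * gw.1.1⁻¹ := by rw [hA]; group
          _ = 1 := by rw [ht, mul_one, mul_inv_cancel]
      have hbb : b * b = 1 := by
        calc b * b = gw.1.2 * (t * t) * gw.1.2⁻¹ := by rw [hB]; group
          _ = 1 := by rw [ht, mul_one, mul_inv_cancel]
      refine D.outside ?_
      have hab : (a * b)⁻¹ = b * a := inv_eq_of_mul_eq_one_right (by
        rw [mul_assoc, ← mul_assoc b b a, hbb, one_mul, haa])
      rw [← gw.2, hab, inv_eq_of_mul_eq_one_right haa, ← mul_assoc a a b, haa, one_mul]⟩,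
      ⟨gw.1.1, rfl⟩, ⟨gw.1.2, by
        show gw.1.2 * t * gw.1.2⁻¹ = gw.1.1 * t * gw.1.1⁻¹ * D.S.x
        have haa : gw.1.1 * t * gw.1.1⁻¹ * (gw.1.1 * t * gw.1.1⁻¹) = 1 := by
          calc _ = gw.1.1 * (t * t) * gw.1.1⁻¹ := by group
            _ = 1 := by rw [ht, mul_one, mul_inv_cancel]
        calc gw.1.2 * t * gw.1.2⁻¹ =
            gw.1.1 * t * gw.1.1⁻¹ * (gw.1.1 * t * gw.1.1⁻¹) * (gw.1.2 * t * gw.1.2⁻¹) := by rw [haa, one_mul]
          _ = gw.1.1 * t * gw.1.1⁻¹ * (gw.1.1 * t * gw.1.1⁻¹ * (gw.1.2 * t * gw.1.2⁻¹)) := mul_assoc _ _ _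
          _ = gw.1.1 * t * gw.1.1⁻¹ * D.S.x := congrArg _ gw.2⟩⟩
  have hf : Function.Bijective f := by
    constructor
    · rintro ⟨⟨a, b⟩, h⟩ ⟨⟨a', b'⟩, h'⟩ he
      have h1 : a = a' := congrArg (fun s => (s.2.1 : G)) he
      have h2 : b = b' := congrArg (fun s => (s.2.2 : G)) he
      subst h1 h2
      rfl
    · rintro ⟨⟨a, ha⟩, ⟨g1, hg1⟩, ⟨g2, hg2⟩⟩
      have hg1' : g1 * t * g1⁻¹ = a := hg1
      subst hg1'
      refine ⟨⟨(g1, g2), ?_⟩, rfl⟩
      show g1 * t * g1⁻¹ * (g2 * t * g2⁻¹) = D.S.x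
      rw [hg2]
      show g1 * t * g1⁻¹ * (g1 * t * g1⁻¹ * D.S.x) = D.S.x
      rw [← mul_assoc, (D.sq_outside ha.1 ha.2).1, one_mul]
  have hcardA : Nat.card {a : G // a ∈ Subgroup.normalizer (P₀ : Set G) ∧ a ∉ P₀} = p := by
    rw [Nat.card_eq_fintype_card, Fintype.card_subtype]
    have hs : (Finset.univ.filter fun a : G => a ∈ Subgroup.normalizer (P₀ : Set G) ∧ a ∉ P₀) =
        (Finset.univ.filter fun a : G => a ∈ Subgroup.normalizer (P₀ : Set G)) \
          (Finset.univ.filter fun a : G => a ∈ P₀) := by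
      ext a; simp
    have hsub : (Finset.univ.filter fun a : G => a ∈ P₀) ⊆
        (Finset.univ.filter fun a : G => a ∈ Subgroup.normalizer (P₀ : Set G)) := fun a ha => by
      simp only [Finset.mem_filter, Finset.mem_univ, true_and] at ha ⊢
      exact D.S.le_normalizer ha
    rw [hs, Finset.card_sdiff_of_subset hsub, ← Fintype.card_subtype, ← Fintype.card_subtype,
      ← Nat.card_eq_fintype_card, ← Nat.card_eq_fintype_card, D.S.card_P]
    show Nat.card (Subgroup.normalizer (P₀ : Set G)) - p = p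
    rw [D.S.hN]
    omega
  have hcount : Nat.card {gw : G × G // gw.1 * t * gw.1⁻¹ * (gw.2 * t * gw.2⁻¹) = D.S.x} =
      p * Nat.card (Subgroup.centralizer ({t} : Set G)) ^ 2 := by
    rw [Nat.card_congr (Equiv.ofBijective f hf), Nat.card_sigma, Finset.sum_congr rfl fun a _ => by
      rw [Nat.card_prod, hfibre _ (hta₀.trans (D.conj_outside ha₀ ha₀P a.2.1 a.2.2)),
        hfibre _ (hta₀.trans (D.conj_outside ha₀ ha₀P (hbx a).1 (hbx a).2))],
      Finset.sum_const, Finset.card_univ, ← Nat.card_eq_fintype_card, hcardA, smul_eq_mul, pow_two]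
  have h := D.pairs_eq ht ht1
  rw [← Fintype.card_subtype, ← Nat.card_eq_fintype_card, hcount] at h
  push_cast at h
  exact h

end CfsgLib.PrimeDegreeTwo
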