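import Cfsg.Agent.Lib.SmallGroups.BrauerFew.Large
import Cfsg.Agent.Lib.Cores.Basic
import Mathlib

/-!
A perfect group with trivial `O_{p'}`, a Sylow subgroup of order `p` and `n p + 1` Sylow subgroups is
`PSL(2, p)` or `PSL(2, p - 1)` when no `u p + 1` with `0 < u < n` divides `(p - 1) (n p + 1)`.
-/

set_option autoImplicit false

namespace CfsgLib.PrimeDegreeTwo.Dichotomy

open Subgroup CfsgLib.InvolChar CfsgLib.Blocks CfsgLib.SmallGroups.BrauerFew CfsgLib.SmallGroups
open scoped Pointwise ComplexConjugate commutatorElement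

section

variable {G : Type*} [Group G] [Finite G] {p : ℕ} [Fact p.Prime]

/-- A Sylow subgroup of order `p` of a perfect group is not normal. -/
theorem not_normal (hperf : commutator G = ⊤) (P : Sylow p G) (hP : Nat.card (P : Subgroup G) = p) :
    ¬ (P : Subgroup G).Normal := fun hn => by
  have hp : p.Prime := Fact.out
  have : IsCyclic (P : Subgroup G) := isCyclic_of_prime_card hP
  have hC : Subgroup.centralizer ((P : Subgroup G) : Set G) = ⊤ := by
    refine top_le_iff.mp (hperf ▸ ?_)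
    rw [commutator_def, Subgroup.commutator_le]
    intro u _ v _
    refine Subgroup.mem_centralizer_iff.mpr fun z hz => ?_
    let φ : G →* MulAut (P : Subgroup G) := MulAut.conjNormal
    obtain ⟨w, hw⟩ := (inferInstance : IsCyclic (P : Subgroup G)).exists_generator
    have hcomm : ∀ a b : MulAut (P : Subgroup G), a * b = b * a := fun a b => by
      ext c
      obtain ⟨k, rfl⟩ := Subgroup.mem_zpowers_iff.mp (hw c)
      obtain ⟨i, hi⟩ := Subgroup.mem_zpowers_iff.mp (hw (a w))
      obtain ⟨j, hj⟩ := Subgroup.mem_zpowers_iff.mp (hw (b w))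
      show ((a (b (w ^ k)) : (P : Subgroup G)) : G) = (b (a (w ^ k)) : (P : Subgroup G))
      simp only [map_zpow, ← hi, ← hj, ← zpow_mul]
      congr 2
      ring
    have h1 : φ ⁅u, v⁆ = 1 := by
      rw [map_commutatorElement, commutatorElement_eq_one_iff_mul_comm]
      exact hcomm _ _
    have h2 : ⁅u, v⁆ * z * ⁅u, v⁆⁻¹ = z :=
      congrArg Subtype.val (DFunLike.congr_fun h1 (⟨z, hz⟩ : (P : Subgroup G)))
    exact (mul_inv_eq_iff_eq_mul.mp h2).symm
  have : IsMulCommutative (P : Subgroup G) := inferInstance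
  have hbot : (P : Subgroup G) = ⊥ := (Subgroup.eq_bot_iff_forall _).mpr fun z hz =>
    eq_one_of_central_in_normalizer_of_abelian_sylow hperf P hz fun n _ =>
      (Subgroup.mem_centralizer_iff.mp (hC ▸ Subgroup.mem_top n :
        n ∈ Subgroup.centralizer ((P : Subgroup G) : Set G)) z hz).symm
  rw [hbot, Subgroup.card_bot] at hP
  exact hp.ne_one hP.symm

/-- The number of Sylow subgroups of a quotient divides that of the group. -/
theorem card_sylow_quotient_dvd (K : Subgroup G) [K.Normal] (P : Sylow p G) :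
    Nat.card (Sylow p (G ⧸ K)) ∣ Nat.card (Sylow p G) := by
  have hf : Function.Surjective (QuotientGroup.mk' K) := QuotientGroup.mk'_surjective K
  rw [card_sylow_eq_index (P.mapSurjective hf), card_sylow_eq_index P, Sylow.coe_mapSurjective]
  exact (Subgroup.index_dvd_of_le (Subgroup.le_normalizer_map _)).trans (Subgroup.index_map_dvd _ hf)

/-- A normal subgroup of order divisible by `p` contains a Sylow subgroup of order `p`. -/
theorem sylow_le_of_dvd (P : Sylow p G) (hP : Nat.card (P : Subgroup G) = p) (M : Subgroup G)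
    (hM : M.Normal) (hpM : p ∣ Nat.card M) : (P : Subgroup G) ≤ M := by
  obtain ⟨⟨y, hy⟩, hyo⟩ := exists_prime_orderOf_dvd_card' (G := M) p hpM
  rw [Subgroup.orderOf_mk] at hyo
  obtain ⟨Q, hQ⟩ := (IsPGroup.of_card (n := 1)
    (show Nat.card (zpowers y) = p ^ 1 by rw [Nat.card_zpowers, hyo, pow_one])).exists_le_sylow
  have hQM : (Q : Subgroup G) ≤ M := by
    rw [← eq_of_le_of_card_ge hQ (by rw [Nat.card_congr (Q.equiv P).toEquiv, hP, Nat.card_zpowers, hyo])]
    exact zpowers_le.mpr hy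
  obtain ⟨g, hg⟩ := MulAction.exists_smul_eq G Q P
  rw [← hg, Sylow.coe_subgroup_smul]
  rintro _ ⟨w, hw, rfl⟩
  exact hM.conj_mem _ (hQM hw) g

end

variable {G : Type*} [Group G] [Fintype G] {p : ℕ} [Fact p.Prime]

set_option maxHeartbeats 1600000 in
/-- The Sylow subgroup is self-centralising. -/
theorem centralizer_eq (hperf : commutator G = ⊤) (hcore : Cfsg.pPrimeCore p G = ⊥) (P : Sylow p G)
    (hP : Nat.card (P : Subgroup G) = p) {n : ℕ} (hn : 0 < n) (hS : Nat.card (Sylow p G) = n * p + 1)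
    (hno : ∀ u, 0 < u → u < n → ¬ (u * p + 1) ∣ (p - 1) * (n * p + 1)) :
    centralizer ((P : Subgroup G) : Set G) = (P : Subgroup G) := by
  classical
  have hp : p.Prime := Fact.out
  set N := normalizer ((P : Subgroup G) : Set G) with hNdef
  set C := centralizer ((P : Subgroup G) : Set G) with hCdef
  have hPC : (P : Subgroup G) ≤ C := PrimeSylow.le_centralizer P hP
  have hCN : C ≤ N := centralizer_le_normalizer _
  set e := C.relIndex N with hedef
  obtain ⟨t, ht⟩ : e ∣ p - 1 := PrimeSylow.relIndex_dvd P hP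
  have : IsCyclic (P : Subgroup G) := isCyclic_of_prime_card hP
  have : IsMulCommutative (P : Subgroup G) := inferInstance
  obtain ⟨g, hgo, hPg⟩ := exists_zpowers_of_card_prime hP
  have hgP : g ∈ (P : Subgroup G) := hPg ▸ mem_zpowers g
  have hg1 : g ≠ 1 := fun h => hp.ne_one (by rw [← hgo, h, orderOf_one])
  have he1 : e ≠ 1 := fun h => hg1
    (eq_one_of_central_in_normalizer_of_abelian_sylow hperf P hgP fun m hm =>
      (Subgroup.mem_centralizer_iff.mp (relIndex_eq_one.mp h hm : m ∈ C) g hgP).symm)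
  have he0 : 0 < e := Nat.pos_of_ne_zero fun h => by
    rw [h, zero_mul] at ht; have := hp.two_le; omega
  have hindex : (centralizer ({g} : Set G)).index = e * (n * p + 1) := by
    rw [show centralizer ({g} : Set G) = C by
      rw [hCdef, hPg, zpowers_eq_closure, centralizer_closure], ← Subgroup.relIndex_mul_index hCN, hNdef,
      ← card_sylow_eq_index P, hS]
  have hdvdp : e * (n * p + 1) ∣ (p - 1) * (n * p + 1) := mul_dvd_mul_right ⟨t, ht⟩ _
  have ht0 : 0 < t := Nat.pos_of_ne_zero fun h => by rw [h, mul_zero] at ht; have := hp.two_le; omega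
  have hele : e ≤ p - 1 := by rw [ht]; exact Nat.le_mul_of_pos_right e ht0
  have hnp : p < n * p + 1 := Nat.lt_succ_of_le (Nat.le_mul_of_pos_left p hn)
  -- the principal block
  obtain ⟨M, hM⟩ := CfsgLib.Invol.exists_isPModular p hp
  haveI := hM.2.1
  obtain ⟨X, Y, hB, hXY, hXc, hYc, -, εX, ε, hX, hε, hYdeg, hYeq, hYrel⟩ :=
    principal_block_prime_sylow P hM hP e rfl
  rw [ht, Nat.mul_div_cancel_left _ he0] at hYc
  set one : Cfsg.IrrCharacter G := CfsgLib.Char.irrOne with hone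
  let Xf : Finset (Cfsg.IrrCharacter G) := Finset.univ.filter (· ∈ X)
  let Yf : Finset (Cfsg.IrrCharacter G) := Finset.univ.filter (· ∈ Y)
  have hXf : ∀ χ, χ ∈ Xf ↔ χ ∈ X := fun χ => by simp [Xf]
  have hYf : ∀ χ, χ ∈ Yf ↔ χ ∈ Y := fun χ => by simp [Yf]
  have hYcard : Yf.card = t := by rw [← hYc, Nat.card_eq_fintype_card, Fintype.card_subtype]
  have hdisj : Disjoint Xf Yf := Finset.disjoint_left.mpr fun χ h h' =>
    Set.disjoint_left.mp hXY ((hXf χ).mp h) ((hYf χ).mp h')
  have hblock : ∀ χ, χ ∈ Cfsg.principalBlock M G ↔ χ ∈ Xf ∪ Yf := fun χ => by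
    rw [hB, Finset.mem_union, hXf, hYf, Set.mem_union]
  have honeB : one ∈ Xf ∪ Yf := (hblock one).mp irrOne_mem_principalBlock
  have hsumBlock : ∀ F : Cfsg.IrrCharacter G → ℂ,
      (∑ χ, if χ ∈ Cfsg.principalBlock M G then F χ else 0) = ∑ χ ∈ Xf, F χ + ∑ χ ∈ Yf, F χ := fun F => by
    rw [← Finset.sum_union hdisj, ← Finset.sum_filter]
    exact Finset.sum_congr (by ext χ; simp [hblock]) fun _ _ => rfl
  have hXval : ∀ χ ∈ Xf, (χ : G → ℂ) g = (εX χ : ℂ) := by
    intro χ hχ
    have := (hX χ ((hXf χ).mp hχ)).2.2 g hgP hg1 1 (one_mem _) (by rw [orderOf_one]; exact hp.not_dvd_one)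
    rwa [mul_one] at this
  obtain ⟨θ₀, hθ₀⟩ := Finset.card_pos.mp (lt_of_lt_of_eq ht0 hYcard.symm)
  set f₀ := deg θ₀ with hf₀
  have hYd : ∀ θ ∈ Yf, deg θ = f₀ := by
    intro θ hθ
    have h := hYeq θ ((hYf θ).mp hθ) θ₀ ((hYf θ₀).mp hθ₀) 1 (by rw [orderOf_one]; exact hp.not_dvd_one)
    rw [deg_spec θ, deg_spec θ₀] at h
    exact_mod_cast h
  have hrel1 : ∑ χ ∈ Xf, (εX χ : ℂ) * (deg χ : ℂ) = (ε : ℂ) * (f₀ : ℂ) := by
    have h := hYrel θ₀ ((hYf θ₀).mp hθ₀) 1 (by rw [orderOf_one]; exact hp.not_dvd_one)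
    rw [finsum_mem_eq_sum_of_inter_support_eq (t := Xf) _ (by ext χ; simp [Xf])] at h
    simp only [fun χ : Cfsg.IrrCharacter G => deg_spec χ] at h
    exact h.symm
  have hsumY : ∑ θ ∈ Yf, (θ : G → ℂ) g = -(ε : ℂ) := by
    obtain ⟨i, hi⟩ := PrimeSylow.pw_surjOn P hP hgP
    have hi0 : i ≠ 0 := fun h => hg1 (by rw [← hi, h, PrimeSylow.pw_zero])
    have h := column_regular P hM hP hi0 (g := 1) (by rw [orderOf_one]; exact hp.not_dvd_one)
    rw [hsumBlock, hi] at h
    simp only [fun χ : Cfsg.IrrCharacter G => deg_spec χ] at h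
    rw [Finset.sum_congr (s₁ := Xf) rfl fun χ hχ => by rw [hXval χ hχ], hrel1,
      Finset.sum_congr (s₁ := Yf) rfl fun θ hθ => by rw [hYd θ hθ], ← Finset.sum_mul] at h
    have hf : (f₀ : ℂ) ≠ 0 := by exact_mod_cast (deg_pos θ₀).ne'
    have h' : (∑ θ ∈ Yf, (θ : G → ℂ) g + (ε : ℂ)) * (f₀ : ℂ) = 0 := by linear_combination h
    linear_combination (mul_eq_zero.mp h').resolve_right hf
  have hfdvd : f₀ ∣ e * (n * p + 1) := by
    refine CfsgLib.Char.dvd_of_isIntegral_div (deg_pos θ₀).ne' ?_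
    have h : IsIntegral ℤ (∑ θ ∈ Yf, ((centralizer ({g} : Set G)).index : ℂ) * (θ : G → ℂ) g / (θ : G → ℂ) 1) :=
      IsIntegral.sum _ fun θ _ => CfsgLib.Char.isIntegral_index_mul_div θ.2 g
    rw [Finset.sum_congr rfl fun θ hθ => by rw [deg_spec θ, hYd θ hθ], ← Finset.sum_div, ← Finset.mul_sum,
      hsumY, hindex] at h
    rcases hε with rfl | rfl
    · have h' := h.neg
      convert h' using 1
      push_cast; ring
    · convert h using 1
      push_cast; ring
  have hXdvd : ∀ χ ∈ Xf, deg χ ∣ e * (n * p + 1) := by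
    intro χ hχ
    refine CfsgLib.Char.dvd_of_isIntegral_div (deg_pos χ).ne' ?_
    have h := CfsgLib.Char.isIntegral_index_mul_div χ.2 g
    rw [hXval χ hχ, deg_spec χ, hindex] at h
    rcases (hX χ ((hXf χ).mp hχ)).1 with he | he <;> rw [he] at h
    · convert h using 1
      push_cast; ring
    · have h' := h.neg
      convert h' using 1
      push_cast; ring
  -- some member of `X` has value `-1` and degree `p - 1`
  obtain ⟨χ, hχX, hσ, hd⟩ : ∃ χ ∈ Xf, εX χ = -1 ∧ deg χ = p - 1 := by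
    by_contra hcon
    push Not at hcon
    have hmul : ∀ χ ∈ Xf.erase one, ((n * p + 1 : ℕ) : ℤ) ∣ εX χ * (deg χ : ℤ) := by
      intro χ hχ
      obtain ⟨hne, hχ'⟩ := Finset.mem_erase.mp hχ
      obtain ⟨hs, hmod, -⟩ := hX χ ((hXf χ).mp hχ')
      rw [deg_eq_charDegree] at hmod
      have hmod' := Int.ModEq.dvd hmod.symm
      have hd2 := one_lt_deg hperf hne
      have hdvd := (hXdvd χ hχ').trans hdvdp
      refine Dvd.dvd.mul_left ?_ _
      rcases hs with he | he <;> rw [he] at hmod'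
      · rw [(dvd_plus_cases hp.two_le hno hdvd hmod').resolve_left (by omega)]
      · rw [(dvd_minus_cases hp.two_le hno hdvd (by simpa using hmod')).resolve_left (hcon χ hχ' he)]
        push_cast
        exact dvd_mul_left _ _
    have hrelz : ∑ χ ∈ Xf, εX χ * (deg χ : ℤ) = ε * (f₀ : ℤ) := by
      apply Int.cast_injective (α := ℂ)
      push_cast
      exact hrel1
    by_cases honeX : one ∈ Xf
    · have hε1 : εX one = 1 := by
        have := hXval one honeX
        rw [hone, CfsgLib.Char.irrOne_apply] at this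
        exact_mod_cast this.symm
      rw [← Finset.add_sum_erase _ _ honeX, hε1, deg_irrOne, Nat.cast_one, mul_one] at hrelz
      have hdiv : ((n * p + 1 : ℕ) : ℤ) ∣ ε * (f₀ : ℤ) - 1 := by
        rw [← hrelz, add_sub_cancel_left]
        exact Finset.dvd_sum hmul
      have hf2 : 2 ≤ f₀ := one_lt_deg hperf fun h => Finset.disjoint_left.mp hdisj honeX ((h.trans hone.symm) ▸ hθ₀)
      have hcop : f₀.Coprime (n * p + 1) := Nat.coprime_of_dvd' fun k _ h1 h2 => by
        have h3 : (k : ℤ) ∣ ε * (f₀ : ℤ) - 1 := (Int.natCast_dvd_natCast.mpr h2).trans hdiv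
        have h4 : (k : ℤ) ∣ ε * (f₀ : ℤ) := (Int.natCast_dvd_natCast.mpr h1).mul_left _
        have h5 := dvd_sub h4 h3
        rw [sub_sub_cancel] at h5
        exact Int.natCast_dvd_natCast.mp (by exact_mod_cast h5)
      have hfe : f₀ ≤ e := Nat.le_of_dvd he0 (hcop.dvd_of_dvd_mul_right hfdvd)
      rcases hε with rfl | rfl
      · have := Int.le_of_dvd (by omega) hdiv
        omega
      · have := Int.le_of_dvd (by omega) (dvd_neg.mpr hdiv)
        omega
    · have hY1 : one ∈ Yf := (Finset.mem_union.mp honeB).resolve_left honeX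
      have hf1 : f₀ = 1 := by rw [← hYd one hY1, deg_irrOne]
      have hdiv : ((n * p + 1 : ℕ) : ℤ) ∣ ε := by
        rw [show ε = ε * (f₀ : ℤ) by rw [hf1]; simp, ← hrelz]
        rw [← Finset.erase_eq_of_notMem honeX]
        exact Finset.dvd_sum hmul
      rcases hε with rfl | rfl
      · have := Int.le_of_dvd one_pos hdiv
        omega
      · have := Int.le_of_dvd one_pos (dvd_neg.mp hdiv)
        omega
  obtain ⟨-, -, hval⟩ := hX χ ((hXf χ).mp hχX)
  have hd' : (χ : G → ℂ) 1 = (p : ℂ) - 1 := by rw [deg_spec χ, hd, Nat.cast_sub hp.one_le, Nat.cast_one]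
  obtain ⟨m, ρ, hirr, hρ⟩ := χ.2
  have hker0 : ρ.ker = ⊥ := by
    refine le_bot_iff.mp (hcore ▸ CfsgLib.Cores.le_pPrimeCore_of_not_dvd (p := p) fun h => ?_)
    have hgk : g ∈ ρ.ker := sylow_le_of_dvd P hP ρ.ker inferInstance h hgP
    have hgd := (CfsgLib.Char.character_eq_degree_iff ρ g).mpr (MonoidHom.mem_ker.mp hgk)
    rw [← Representation.char_one ρ, congrFun hρ 1, congrFun hρ g, hd', hXval χ hχX, hσ] at hgd
    have : ((p : ℕ) : ℂ) = 0 := by push_cast at hgd ⊢; linear_combination -hgd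
    exact hp.ne_zero (by exact_mod_cast this)
  have hpp : ¬ p * p ∣ Nat.card G := fun h => by
    rw [← (P : Subgroup G).card_mul_index, hP] at h
    exact P.not_dvd_index (Nat.dvd_of_mul_dvd_mul_left hp.pos h)
  have hCp : IsPGroup p C := fun c => ⟨1, Subtype.ext (by
    rw [pow_one, SubmonoidClass.coe_pow, OneMemClass.coe_one]
    have hreg : ¬ p ∣ orderOf ((c : G) ^ p) := fun h => by
      have h1 : p ∣ orderOf (c : G) := h.trans (orderOf_pow_dvd p)
      rw [orderOf_pow' _ hp.ne_zero, Nat.gcd_eq_right h1] at h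
      exact hpp ((Nat.mul_dvd_of_dvd_div h1 h).trans (orderOf_dvd_natCard _))
    have hker := mem_kernel_of_no_fixed (H := (P : Subgroup G)) hP (CfsgLib.Char.isCharacter_of_isIrr χ.2) hd'
      (y := (c : G) ^ p)
      (fun u hu hu1 => by
        have := hval u hu hu1 1 (one_mem _) (by rw [orderOf_one]; exact hp.not_dvd_one)
        rw [mul_one, hσ] at this
        rw [this]; norm_num)
      (fun u hu hu1 => by rw [hval u hu hu1 _ (pow_mem c.2 p) hreg, hσ]; norm_num)
    have hfull : ρ ((c : G) ^ p) = LinearMap.id := by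
      refine (CfsgLib.Char.character_eq_degree_iff ρ _).mp ?_
      rw [congrFun hρ _, hker, ← congrFun hρ 1, Representation.char_one]
    exact Subgroup.mem_bot.mp (hker0 ▸ (MonoidHom.mem_ker.mpr hfull : (c : G) ^ p ∈ ρ.ker)))⟩
  exact P.3 hCp hPC

/-- The recognition. -/
theorem main (hperf : commutator G = ⊤) (hcore : Cfsg.pPrimeCore p G = ⊥) (P : Sylow p G)
    (hP : Nat.card (P : Subgroup G) = p) {n : ℕ} (hn : 0 < n) (hS : Nat.card (Sylow p G) = n * p + 1)
    (hno : ∀ u, 0 < u → u < n → ¬ (u * p + 1) ∣ (p - 1) * (n * p + 1)) :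
    3 < p ∧ ((∃ (F : Type) (_ : Field F) (_ : Fintype F), Fintype.card F = p ∧
          Nonempty (G ≃* Matrix.ProjectiveSpecialLinearGroup (Fin 2) F)) ∨
        ∃ (m : ℕ) (F : Type) (_ : Field F) (_ : Fintype F), Fintype.card F = 2 ^ m ∧ p = 2 ^ m + 1 ∧
          Nonempty (G ≃* Matrix.ProjectiveSpecialLinearGroup (Fin 2) F)) := by
  have hp : p.Prime := Fact.out
  obtain ⟨x, hx, hPx⟩ := exists_zpowers_of_card_prime hP
  have hcent := centralizer_eq hperf hcore P hP hn hS hno
  have hC : centralizer ({x} : Set G) = zpowers x := by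
    rw [← hPx, ← hcent, hPx, zpowers_eq_closure, centralizer_closure]
  have L : Loc G p x := ⟨hperf, hx, hC⟩
  obtain ⟨q, t, m, hq, ht, hm0, hpq, hSm, hN, hcard, hrel, hsol⟩ := L.exists_numbers P hPx
  obtain rfl : m = n := Nat.eq_of_mul_eq_mul_right hp.pos (by omega)
  haveI : IsSimpleGroup G := by
    haveI : Nontrivial G := ⟨⟨x, 1, L.ne_one⟩⟩
    refine ⟨fun M hM => ?_⟩
    haveI := hM
    haveI := hsol
    by_cases hpM : p ∣ Nat.card M
    · exact Or.inr (eq_top_of_solvable_sup hperf M _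
        (Sylow.normalizer_sup_eq_top' P (sylow_le_of_dvd P hP M hM hpM)))
    · exact Or.inl (le_bot_iff.mp (hcore ▸ CfsgLib.Cores.le_pPrimeCore_of_not_dvd (p := p) hpM))
  have prime_case : m = 1 → 2 * q + 1 = p → ∃ (F : Type) (_ : Field F) (_ : Fintype F), Fintype.card F = p ∧
      Nonempty (G ≃* Matrix.ProjectiveSpecialLinearGroup (Fin 2) F) := fun h1 h2 => by
    subst h1
    exact L.psl_prime hq h2 hcard (by rw [hS, one_mul])
  obtain ⟨f, τ, ⟨D⟩, ⟨rfl, rfl, ht2⟩ | ⟨rfl, hf⟩⟩ :=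
    exists_bdata_of_no_divisor L P hPx hq ht hpq hn hno hcard hrel
  · obtain ⟨h1, h2⟩ := D.plus_case L hq ht2 hpq hn
    exact ⟨by omega, Or.inl (prime_case h1 h2)⟩
  obtain ⟨I⟩ := D.exists_inverting L hq ht hn hpq hf hcard hPx hN
  have hn1 := I.n_eq
  rcases (show t = 2 ∨ 3 ≤ t by omega) with rfl | ht3
  · exact ⟨by omega, Or.inl (prime_case (by omega) (by omega))⟩
  · obtain rfl := I.q_eq_two L hpq ht3 hcard
    exact ⟨by omega, Or.inr (I.psl_even L ht3 hpq hf hcard hS)⟩

end CfsgLib.PrimeDegreeTwo.Dichotomy
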