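import Cfsg.Agent.Lib.Blocks.KleinOrder
import Cfsg.Agent.Lib.Blocks.CyclicOrbits
import Cfsg.Agent.Lib.Char.Generalized
import Cfsg.Agent.Lib.Char.Induced
import Cfsg.Agent.Lib.Char.PermChar
import Mathlib

/-!
# Doubly transitive groups of prime degree with Sylow normalisers of order `2p`

* `char_cases`: the irreducible characters not vanishing on an element of order `p` are `1`, `π - 1`,
  and characters of degree `p - 2` agreeing with `π - 2` on the other elements;
* `involution_fixed`: an involution fixes at most one point.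
-/

set_option autoImplicit false
set_option linter.unusedSectionVars false

noncomputable section

namespace CfsgLib.PrimeDegreeTwo

open MulAction CfsgLib.Char Cfsg
open scoped ComplexConjugate Classical

variable {G α : Type*} [Group G] [Fintype G] [MulAction G α] [Fintype α] {p : ℕ} [hp : Fact p.Prime]

/-- The data: an element of order `p`, acting regularly, self-centralising, inverted. -/
structure Setup (G α : Type*) [Group G] [MulAction G α] (p : ℕ) where
  x : G
  hx : orderOf x = p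
  hC : Subgroup.centralizer ({x} : Set G) = Subgroup.zpowers x
  hN : Nat.card (Subgroup.normalizer ((Subgroup.zpowers x : Subgroup G) : Set G)) = 2 * p
  hfree : ∀ u ∈ Subgroup.zpowers x, u ≠ 1 → Nat.card (fixedBy α u) = 0
  hinv : ∀ a : G, a * x * a⁻¹ = x⁻¹ → Nat.card (fixedBy α a) ≤ 1

variable (S : Setup G α p)

/-- `π`. -/
def pc (g : G) : ℂ := (Nat.card (fixedBy α g) : ℂ)

theorem Setup.card_P : Nat.card (Subgroup.zpowers S.x) = p := by rw [Nat.card_zpowers, S.hx]

theorem Setup.comm : ∀ u v : Subgroup.zpowers S.x, u * v = v * u := fun u v => by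
  apply Subtype.ext
  obtain ⟨i, hi⟩ := Subgroup.mem_zpowers_iff.mp u.2
  obtain ⟨j, hj⟩ := Subgroup.mem_zpowers_iff.mp v.2
  simp only [Subgroup.coe_mul, ← hi, ← hj]
  exact ((Commute.refl S.x).zpow_zpow i j).eq

theorem Setup.order_of_mem {u : G} (hu : u ∈ Subgroup.zpowers S.x) (h1 : u ≠ 1) : orderOf u = p := by
  have hd : orderOf u ∣ p := S.card_P ▸ Subgroup.orderOf_dvd_natCard _ hu
  exact (hp.out.eq_one_or_self_of_dvd _ hd).resolve_left fun h => h1 (orderOf_eq_one_iff.mp h)

theorem Setup.cent_of_mem {u : G} (hu : u ∈ Subgroup.zpowers S.x) (h1 : u ≠ 1) {g : G}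
    (hg : g * u = u * g) : g ∈ Subgroup.zpowers S.x := by
  have hx : S.x ∈ Subgroup.zpowers u := by
    rw [Subgroup.eq_of_le_of_card_ge (Subgroup.zpowers_le.mpr hu)
      (by rw [S.card_P, Nat.card_zpowers, S.order_of_mem hu h1])]
    exact Subgroup.mem_zpowers _
  obtain ⟨m, hm⟩ := Subgroup.mem_zpowers_iff.mp hx
  rw [← S.hC, Subgroup.mem_centralizer_singleton_iff, ← hm]
  exact ((show Commute g u from hg).zpow_right m).eq

theorem Setup.le_normalizer : Subgroup.zpowers S.x ≤
    Subgroup.normalizer ((Subgroup.zpowers S.x : Subgroup G) : Set G) := Subgroup.le_normalizer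

/-- An element that conjugates a nontrivial element of `P` into `P` normalises `P`. -/
theorem Setup.mem_normalizer {u g : G} (hu : u ∈ Subgroup.zpowers S.x) (h1 : u ≠ 1)
    (hg : g⁻¹ * u * g ∈ Subgroup.zpowers S.x) :
    g ∈ Subgroup.normalizer ((Subgroup.zpowers S.x : Subgroup G) : Set G) := by
  have hgen : ∀ w ∈ Subgroup.zpowers S.x, w ≠ 1 → Subgroup.zpowers w = Subgroup.zpowers S.x :=
    fun w hw hw1 => Subgroup.eq_of_le_of_card_ge (Subgroup.zpowers_le.mpr hw)
      (by rw [S.card_P, Nat.card_zpowers, S.order_of_mem hw hw1])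
  have hv1 : g⁻¹ * u * g ≠ 1 := fun h => h1 (by
    calc u = g * (g⁻¹ * u * g) * g⁻¹ := by group
      _ = 1 := by rw [h, mul_one, mul_inv_cancel])
  rw [← inv_mem_iff, Subgroup.mem_normalizer_iff]
  intro w
  have hmap : (Subgroup.zpowers u).map (MulAut.conj g⁻¹).toMonoidHom = Subgroup.zpowers S.x := by
    rw [MonoidHom.map_zpowers]
    show Subgroup.zpowers (g⁻¹ * u * g⁻¹⁻¹) = _
    rw [inv_inv, hgen _ hg hv1]
  rw [hgen u hu h1] at hmap
  constructor
  · intro hw
    rw [← hmap]
    exact ⟨w, hw, rfl⟩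
  · intro hw
    rw [← hmap] at hw
    obtain ⟨w', hw', hww⟩ := hw
    rwa [(MulAut.conj g⁻¹).injective hww] at hw'

/-- Elements of the normaliser outside `P` invert `P`. -/
theorem Setup.inverts {n : G} (hn : n ∈ Subgroup.normalizer ((Subgroup.zpowers S.x : Subgroup G) : Set G))
    (hnP : n ∉ Subgroup.zpowers S.x) {u : G} (hu : u ∈ Subgroup.zpowers S.x) : n⁻¹ * u * n = u⁻¹ := by
  by_cases h1 : u = 1
  · simp [h1]
  have hsq : n * n ∈ Subgroup.zpowers S.x := by
    have hidx : ((Subgroup.zpowers S.x).subgroupOf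
        (Subgroup.normalizer ((Subgroup.zpowers S.x : Subgroup G) : Set G))).index = 2 := by
      have h := Subgroup.card_mul_index ((Subgroup.zpowers S.x).subgroupOf
        (Subgroup.normalizer ((Subgroup.zpowers S.x : Subgroup G) : Set G)))
      rw [Nat.card_congr (Subgroup.subgroupOfEquivOfLe S.le_normalizer).toEquiv, S.card_P, S.hN,
        mul_comm 2 p] at h
      exact Nat.eq_of_mul_eq_mul_left hp.out.pos h
    have := Subgroup.sq_mem_of_index_two hidx ⟨n, hn⟩
    rw [Subgroup.mem_subgroupOf] at this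
    simpa [pow_two] using this
  set v := n⁻¹ * u * n with hv
  have hvP : v ∈ Subgroup.zpowers S.x :=
    ((Subgroup.mem_normalizer_iff''.mp hn) u).mp hu
  have hvv : n⁻¹ * v * n = u := by
    have hc : Commute (n * n) u := by
      have := S.comm ⟨n * n, hsq⟩ ⟨u, hu⟩
      exact congrArg Subtype.val this
    calc n⁻¹ * v * n = (n * n)⁻¹ * (u * (n * n)) := by rw [hv]; group
      _ = (n * n)⁻¹ * ((n * n) * u) := by rw [hc.eq]
      _ = u := by group
  have huv : u * v = 1 := by
    by_contra hne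
    have hcomm : v * u = u * v := congrArg Subtype.val (S.comm ⟨v, hvP⟩ ⟨u, hu⟩)
    have hfix : n⁻¹ * (u * v) * n = u * v := by
      calc n⁻¹ * (u * v) * n = (n⁻¹ * u * n) * (n⁻¹ * v * n) := by group
        _ = u * v := by rw [← hv, hvv, hcomm]
    refine hnP (S.cent_of_mem (mul_mem hu hvP) hne ?_)
    calc n * (u * v) = n * (n⁻¹ * (u * v) * n) := by rw [hfix]
      _ = u * v * n := by group
  exact eq_inv_of_mul_eq_one_right huv

/-- The induced function `Ind_P (1 - θ)`. -/
def Setup.ind (θ : IrrCharacter (Subgroup.zpowers S.x)) : G → ℂ :=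
  indFun (Subgroup.zpowers S.x) (fun u => 1 - (θ : Subgroup.zpowers S.x → ℂ) u)

theorem Setup.ind_apply {u : G} (hu : u ∈ Subgroup.zpowers S.x)
    (θ : IrrCharacter (Subgroup.zpowers S.x)) :
    S.ind θ u = 2 - (θ : Subgroup.zpowers S.x → ℂ) ⟨u, hu⟩ -
      (θ : Subgroup.zpowers S.x → ℂ) ⟨u⁻¹, inv_mem hu⟩ := by
  have hθ1 : (θ : Subgroup.zpowers S.x → ℂ) 1 = 1 := irr_one_eq_one_of_comm S.comm θ.2
  by_cases h1 : u = 1
  · subst h1
    rw [Setup.ind, indFun_one]
    rw [show (⟨(1 : G), hu⟩ : Subgroup.zpowers S.x) = 1 from rfl,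
      show (⟨(1 : G)⁻¹, inv_mem hu⟩ : Subgroup.zpowers S.x) = 1 from Subtype.ext inv_one, hθ1]
    norm_num
  rw [Setup.ind, indFun_apply]
  set N := Subgroup.normalizer ((Subgroup.zpowers S.x) : Set G) with hNd
  have hval : ∀ g : G, extendByZero (Subgroup.zpowers S.x) (fun w => 1 - (θ : (Subgroup.zpowers S.x) → ℂ) w) (g⁻¹ * u * g) =
      (if g ∈ (Subgroup.zpowers S.x) then 1 - (θ : (Subgroup.zpowers S.x) → ℂ) ⟨u, hu⟩ else 0) +
      (if g ∈ N ∧ g ∉ (Subgroup.zpowers S.x) then 1 - (θ : (Subgroup.zpowers S.x) → ℂ) ⟨u⁻¹, inv_mem hu⟩ else 0) := by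
    intro g
    by_cases hgP : g ∈ (Subgroup.zpowers S.x)
    · have : g⁻¹ * u * g = u := by
        have hc : u * g = g * u := congrArg Subtype.val (S.comm ⟨u, hu⟩ ⟨g, hgP⟩)
        rw [mul_assoc, hc, inv_mul_cancel_left]
      rw [this, extendByZero_of_mem _ hu, if_pos hgP, if_neg fun h => h.2 hgP, add_zero]
    by_cases hgN : g ∈ N
    · rw [S.inverts hgN hgP hu, extendByZero_of_mem _ (inv_mem hu), if_neg hgP, if_pos ⟨hgN, hgP⟩,
        zero_add]
    · rw [extendByZero_of_notMem _ fun h => hgN (S.mem_normalizer hu h1 h), if_neg hgP,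
        if_neg fun h => hgN h.1, add_zero]
  rw [Finset.sum_congr rfl fun g _ => hval g, Finset.sum_add_distrib, ← Finset.sum_filter,
    ← Finset.sum_filter, Finset.sum_const, Finset.sum_const, nsmul_eq_mul, nsmul_eq_mul]
  have hcP : (Finset.univ.filter fun g : G => g ∈ (Subgroup.zpowers S.x)).card = p := by
    rw [← Fintype.card_subtype, ← Nat.card_eq_fintype_card]
    exact S.card_P
  have hcN : (Finset.univ.filter fun g : G => g ∈ N ∧ g ∉ (Subgroup.zpowers S.x)).card = p := by
    have hs : (Finset.univ.filter fun g : G => g ∈ N ∧ g ∉ (Subgroup.zpowers S.x)) =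
        (Finset.univ.filter fun g : G => g ∈ N) \ (Finset.univ.filter fun g : G => g ∈ (Subgroup.zpowers S.x)) := by
      ext g; simp
    have hsub : (Finset.univ.filter fun g : G => g ∈ (Subgroup.zpowers S.x)) ⊆ (Finset.univ.filter fun g : G => g ∈ N) := by
      intro g hg
      simp only [Finset.mem_filter, Finset.mem_univ, true_and] at hg ⊢
      exact S.le_normalizer hg
    have hNc : (Finset.univ.filter fun g : G => g ∈ N).card = 2 * p := by
      rw [← Fintype.card_subtype, ← Nat.card_eq_fintype_card]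
      exact S.hN
    rw [hs, Finset.card_sdiff_of_subset hsub, hNc, hcP]
    omega
  rw [hcP, hcN, S.card_P]
  have : (p : ℂ) ≠ 0 := Nat.cast_ne_zero.mpr hp.out.ne_zero
  field_simp
  ring

theorem Setup.ind_one (θ : IrrCharacter (Subgroup.zpowers S.x)) : S.ind θ 1 = 0 := by
  rw [Setup.ind, indFun_one, irr_one_eq_one_of_comm S.comm θ.2, sub_self, mul_zero]

theorem Setup.ind_eq_zero {g : G} (hg : orderOf g ≠ p) (θ : IrrCharacter (Subgroup.zpowers S.x)) :
    S.ind θ g = 0 := by
  refine indFun_eq_zero_of_forall _ fun c hc => ?_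
  by_cases h1 : c⁻¹ * g * c = 1
  · rw [show (⟨c⁻¹ * g * c, hc⟩ : Subgroup.zpowers S.x) = 1 from Subtype.ext h1,
      irr_one_eq_one_of_comm S.comm θ.2, sub_self]
  · refine absurd ?_ hg
    rw [← S.order_of_mem hc h1]
    have hsc : SemiconjBy c⁻¹ g (c⁻¹ * g * c) := by
      show c⁻¹ * g = c⁻¹ * g * c * c⁻¹
      rw [mul_inv_cancel_right]
    exact hsc.orderOf_eq

variable [IsPretransitive G α]

/-- The characters that do not vanish on `x`. -/
theorem Setup.char_cases (hp2 : p ≠ 2) (hα : Fintype.card α = p)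
    (h2 : IsMultiplyPretransitive G α 2) (χ : IrrCharacter G) :
    (χ : G → ℂ) S.x⁻¹ = 0 ∨ (χ : G → ℂ) = (fun _ => 1) ∨
      (χ : G → ℂ) = (fun g => pc (α := α) g - 1) ∨
      ((χ : G → ℂ) 1 = (p : ℂ) - 2 ∧
        ∀ g : G, orderOf g ≠ p → (χ : G → ℂ) g = pc (α := α) g - 2) := by
  have hα' : Nat.card α = p := by rw [Nat.card_eq_fintype_card, hα]
  haveI : Nonempty α := Fintype.card_pos_iff.mp (hα ▸ hp.out.pos)
  set ψ : G → ℂ := fun g => pc (α := α) g - 1 with hψd
  have hψ : IsIrrCharacter G ψ :=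
    (permChar_sub_one_irr_iff (by rw [hα']; exact hp.out.two_le)).mpr h2
  have hψ1 : ψ 1 = (p : ℂ) - 1 := by
    simp only [hψd, pc, fixedBy_one_eq_univ, Nat.card_univ, hα']
  have hψu : ∀ u : (Subgroup.zpowers S.x), u ≠ 1 → ψ u = -1 := fun u hu => by
    simp only [hψd, pc, S.hfree u u.2 fun h => hu (Subtype.ext h), Nat.cast_zero, zero_sub]
  by_cases hz : (χ : G → ℂ) S.x⁻¹ = 0
  · exact Or.inl hz
  by_cases hone : (χ : G → ℂ) = fun _ => 1
  · exact Or.inr (Or.inl hone)
  by_cases hpsi : (χ : G → ℂ) = ψ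
  · exact Or.inr (Or.inr (Or.inl hpsi))
  refine Or.inr (Or.inr (Or.inr ?_))
  have hpC : (p : ℂ) ≠ 0 := Nat.cast_ne_zero.mpr hp.out.ne_zero
  let ω : IrrCharacter (Subgroup.zpowers S.x) := irrOne
  have hsumθ : ∀ θ : IrrCharacter (Subgroup.zpowers S.x), θ ≠ ω → ∑ u : (Subgroup.zpowers S.x), (θ : (Subgroup.zpowers S.x) → ℂ) u = 0 := by
    intro θ hθ
    have h := classInner_irr_ne θ.2 ω.2 fun h => hθ (Subtype.ext h)
    rw [classInner_def] at h
    simpa [ω, irrOne_apply, S.card_P, hpC] using h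
  have hconj : ∀ (θ : IrrCharacter (Subgroup.zpowers S.x)) (u : (Subgroup.zpowers S.x)), conj ((θ : (Subgroup.zpowers S.x) → ℂ) u) = (θ : (Subgroup.zpowers S.x) → ℂ) u⁻¹ :=
    fun θ u => (char_inv (isCharacter_of_isIrr θ.2) u).symm
  have hθ1 : ∀ θ : IrrCharacter (Subgroup.zpowers S.x), (θ : (Subgroup.zpowers S.x) → ℂ) 1 = 1 := fun θ => irr_one_eq_one_of_comm S.comm θ.2
  -- some induced function meets `χ`
  obtain ⟨θ, hθ, hne⟩ : ∃ θ : IrrCharacter (Subgroup.zpowers S.x), θ ≠ ω ∧ classInner (S.ind θ) (χ : G → ℂ) ≠ 0 := by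
    by_contra hall
    push Not at hall
    apply hz
    set c := classInner (fun u : (Subgroup.zpowers S.x) => (χ : G → ℂ) u) (ω : (Subgroup.zpowers S.x) → ℂ) with hc
    have hcoef : ∀ θ : IrrCharacter (Subgroup.zpowers S.x), classInner (fun u : (Subgroup.zpowers S.x) => (χ : G → ℂ) u) (θ : (Subgroup.zpowers S.x) → ℂ) = c := by
      intro θ
      by_cases hθ : θ = ω
      · rw [hθ]
      have h := hall θ hθ
      rw [Setup.ind, frobenius_reciprocity _ _ (isClassFunction_of_isIrr χ.2)] at h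
      have h' := congrArg conj h
      rw [classInner_conj_symm, map_zero] at h'
      rw [show (fun u : (Subgroup.zpowers S.x) => 1 - (θ : (Subgroup.zpowers S.x) → ℂ) u) = (ω : (Subgroup.zpowers S.x) → ℂ) - (θ : (Subgroup.zpowers S.x) → ℂ) from
        funext fun u => by simp [ω, irrOne_apply], classInner_sub_right, sub_eq_zero] at h'
      rw [← h']
    have hcl : IsClassFunction (Subgroup.zpowers S.x) (fun u : (Subgroup.zpowers S.x) => (χ : G → ℂ) u) := fun a b => by
      rw [show b * a * b⁻¹ = a by rw [S.comm b a, mul_inv_cancel_right]]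
    have hdec := congrFun (classFun_eq_sum hcl) ⟨S.x⁻¹, inv_mem (Subgroup.mem_zpowers _)⟩
    simp only [Finset.sum_apply, Pi.smul_apply, smul_eq_mul, hcoef, ← Finset.mul_sum] at hdec
    rw [hdec, CfsgLib.Blocks.CyclicOrbits.sum_irr_apply S.comm, mul_zero]
    intro h
    have h' : S.x⁻¹ = 1 := congrArg Subtype.val h
    have := S.hx
    rw [inv_eq_one.mp h', orderOf_one] at this
    exact hp.out.ne_one this.symm
  have hθθ : ∑ u : (Subgroup.zpowers S.x), (θ : (Subgroup.zpowers S.x) → ℂ) u * (θ : (Subgroup.zpowers S.x) → ℂ) u = 0 := by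
    have hirr : IsIrrCharacter (Subgroup.zpowers S.x) (fun u => conj ((θ : (Subgroup.zpowers S.x) → ℂ) u)) := by
      let f : (Subgroup.zpowers S.x) →* ℂˣ :=
        MonoidHom.mk' (fun u => linearHom (isCharacter_of_isIrr θ.2) (hθ1 θ) u⁻¹)
          fun a b => by rw [mul_inv_rev, map_mul, mul_comm]
      have h : (fun u => conj ((θ : (Subgroup.zpowers S.x) → ℂ) u)) =
          fun u => ((f u : ℂˣ) : ℂ) := by
        funext u
        rw [hconj, MonoidHom.mk'_apply, linearHom_apply]
      rw [h]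
      exact isIrrCharacter_units_hom f
    have hd : (θ : (Subgroup.zpowers S.x) → ℂ) ≠ fun u => conj ((θ : (Subgroup.zpowers S.x) → ℂ) u) := by
      intro h
      apply hθ
      apply Subtype.ext
      funext u
      show (θ : (Subgroup.zpowers S.x) → ℂ) u = (ω : (Subgroup.zpowers S.x) → ℂ) u
      rw [irrOne_apply]
      obtain ⟨v, rfl⟩ : ∃ v : (Subgroup.zpowers S.x), v * v = u := by
        refine ⟨u ^ ((p + 1) / 2), ?_⟩
        obtain ⟨k, hk⟩ := hp.out.odd_of_ne_two hp2
        have hu : u ^ p = 1 := by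
          have h := pow_card_eq_one' (G := (Subgroup.zpowers S.x)) (x := u)
          rwa [S.card_P] at h
        rw [← pow_add, show (p + 1) / 2 + (p + 1) / 2 = p + 1 by omega, pow_succ, hu, one_mul]
      rw [CfsgLib.Blocks.CyclicOrbits.irr_mul S.comm]
      nth_rw 2 [congrFun h v]
      rw [hconj, ← CfsgLib.Blocks.CyclicOrbits.irr_mul S.comm, mul_inv_cancel, hθ1]
    have h := classInner_irr_ne θ.2 hirr hd
    rw [classInner_def] at h
    simpa [S.card_P, hpC] using h
  set I := S.ind θ with hI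
  have hI1 : classInner I (fun _ : G => 1) = 1 := by
    rw [hI, Setup.ind, frobenius_reciprocity _ _ (isClassFunction_const 1), classInner_def, S.card_P]
    simp only [map_one, mul_one, Finset.sum_sub_distrib, hsumθ θ hθ, Finset.sum_const, Finset.card_univ,
      ← Nat.card_eq_fintype_card, S.card_P, nsmul_eq_mul, sub_zero]
    field_simp
  have hIψ : classInner I ψ = -1 := by
    rw [hI, Setup.ind, frobenius_reciprocity _ _ (isClassFunction_of_isIrr hψ), classInner_def, S.card_P]
    have hψfun : ∀ u : (Subgroup.zpowers S.x), (1 - (θ : (Subgroup.zpowers S.x) → ℂ) u) * conj (ψ u) = -(1 - (θ : (Subgroup.zpowers S.x) → ℂ) u) := by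
      intro u
      by_cases hu : u = 1
      · rw [hu, hθ1]; simp
      · rw [hψu u hu]; simp
    rw [Finset.sum_congr rfl fun u _ => hψfun u, Finset.sum_neg_distrib, Finset.sum_sub_distrib,
      hsumθ θ hθ, Finset.sum_const, Finset.card_univ, ← Nat.card_eq_fintype_card, S.card_P]
    simp only [nsmul_eq_mul, mul_one, sub_zero]
    field_simp
  have hII : classInner I I = 3 := by
    rw [hI]
    conv_lhs => arg 1; rw [Setup.ind]
    rw [frobenius_reciprocity (Subgroup.zpowers S.x) _ (χ := S.ind θ) (isClassFunction_indFun _ _),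
      classInner_def, S.card_P]
    have hterm : ∀ u : (Subgroup.zpowers S.x), (1 - (θ : (Subgroup.zpowers S.x) → ℂ) u) * conj (S.ind θ (u : G)) =
        3 - 3 * (θ : (Subgroup.zpowers S.x) → ℂ) u - (θ : (Subgroup.zpowers S.x) → ℂ) u⁻¹ + (θ : (Subgroup.zpowers S.x) → ℂ) u * (θ : (Subgroup.zpowers S.x) → ℂ) u := by
      intro u
      have hu : (θ : (Subgroup.zpowers S.x) → ℂ) u * (θ : (Subgroup.zpowers S.x) → ℂ) u⁻¹ = 1 := by
        rw [← CfsgLib.Blocks.CyclicOrbits.irr_mul S.comm, mul_inv_cancel, hθ1]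
      rw [S.ind_apply u.2]
      simp only [map_sub, Complex.conj_ofNat]
      rw [show (⟨((u : G))⁻¹, inv_mem u.2⟩ : (Subgroup.zpowers S.x)) = u⁻¹ from rfl, hconj, hconj, inv_inv]
      linear_combination hu
    rw [Finset.sum_congr rfl fun u _ => hterm u, Finset.sum_add_distrib, Finset.sum_sub_distrib,
      Finset.sum_sub_distrib, ← Finset.mul_sum, hsumθ θ hθ, hθθ,
      Fintype.sum_equiv (Equiv.inv (Subgroup.zpowers S.x)) (fun u : (Subgroup.zpowers S.x) => (θ : (Subgroup.zpowers S.x) → ℂ) u⁻¹) (θ : (Subgroup.zpowers S.x) → ℂ) (fun u => rfl),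
      hsumθ θ hθ, Finset.sum_const, Finset.card_univ, ← Nat.card_eq_fintype_card, S.card_P]
    simp only [nsmul_eq_mul]
    field_simp
    ring
  set R : G → ℂ := I - (fun _ => 1) + ψ with hR
  have h11 : classInner (fun _ : G => (1 : ℂ)) (fun _ => 1) = 1 := classInner_irr_self isIrrCharacter_one
  have h1ψ : classInner (fun _ : G => (1 : ℂ)) ψ = 0 := by
    refine classInner_irr_ne isIrrCharacter_one hψ fun h => ?_
    have := congrFun h S.x
    have hx1 : S.x ≠ 1 := fun h => hp.out.ne_one (by rw [← S.hx, h, orderOf_one])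
    simp only [hψd, pc, S.hfree S.x (Subgroup.mem_zpowers _) hx1, Nat.cast_zero, zero_sub] at this
    norm_num at this
  have hψ1' : classInner ψ (fun _ : G => (1 : ℂ)) = 0 := by rw [← classInner_conj_symm, h1ψ, map_zero]
  have hRR : classInner R R = 1 := by
    have h1I : classInner (fun _ : G => (1 : ℂ)) I = 1 := by rw [← classInner_conj_symm, hI1, map_one]
    have hψI : classInner ψ I = -1 := by rw [← classInner_conj_symm, hIψ, map_neg, map_one]
    simp only [hR, classInner_add_left, classInner_sub_left, classInner_add_right, classInner_sub_right,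
      hI1, hIψ, hII, h11, h1ψ, hψ1', h1I, hψI, classInner_irr_self hψ]
    norm_num
  have hgen : IsGeneralizedCharacter G R := by
    refine isGen_add (isGen_sub (isGen_indFun _ ?_) isGen_one) (isGen_of_irr hψ)
    exact isGen_sub isGen_one (isGen_of_irr θ.2)
  have hR1 : R 1 = (p : ℂ) - 2 := by
    simp only [hR, hI, Pi.add_apply, Pi.sub_apply, S.ind_one, hψ1]
    ring
  have hRirr : IsIrrCharacter G R := gen_norm_one_pos hgen hRR (by
    rw [hR1]
    have : (3 : ℝ) ≤ p := by
      have := hp.out.two_le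
      exact_mod_cast (show 3 ≤ p by omega)
    simp only [Complex.sub_re, Complex.natCast_re, Complex.re_ofNat]
    linarith)
  have hχR : (χ : G → ℂ) = R := by
    by_contra hne'
    apply hne
    rw [show I = R + (fun _ => 1) - ψ by rw [hR]; abel, classInner_sub_left, classInner_add_left,
      classInner_irr_ne hRirr χ.2 (Ne.symm hne'), classInner_irr_ne isIrrCharacter_one χ.2 (Ne.symm hone),
      classInner_irr_ne hψ χ.2 (Ne.symm hpsi)]
    ring
  refine ⟨hχR ▸ hR1, fun g hg => ?_⟩
  simp only [hχR, hR, hI, Pi.add_apply, Pi.sub_apply, S.ind_eq_zero hg, hψd]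
  ring

include S in
/-- An involution fixing two points is trivial. -/
theorem Setup.involution_fixed [FaithfulSMul G α] (hp2 : p ≠ 2) (hα : Fintype.card α = p)
    (h2 : IsMultiplyPretransitive G α 2) {z : G} (hz : z * z = 1)
    (hfix : 2 ≤ Nat.card (fixedBy α z)) : z = 1 := by
  have hα' : Nat.card α = p := by rw [Nat.card_eq_fintype_card, hα]
  set k := Nat.card (fixedBy α z) with hk
  have hzp : orderOf z ≠ p := by
    intro h
    have := orderOf_dvd_of_pow_eq_one (show z ^ 2 = 1 by rw [pow_two, hz])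
    rw [h] at this
    exact hp2 ((Nat.prime_dvd_prime_iff_eq hp.out Nat.prime_two).mp this)
  have hzero : ∑ χ : IrrCharacter G,
      (χ : G → ℂ) z * (χ : G → ℂ) z * (χ : G → ℂ) S.x⁻¹ / (χ : G → ℂ) 1 = 0 := by
    have h := CfsgLib.Blocks.card_pairs z z S.x
    have he : (Finset.univ.filter fun gw : G × G =>
        gw.1 * z * gw.1⁻¹ * (gw.2 * z * gw.2⁻¹) = S.x).card = 0 := by
      rw [Finset.card_eq_zero, Finset.filter_eq_empty_iff]
      intro gw _ hgw
      set a := gw.1 * z * gw.1⁻¹ with ha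
      set b := gw.2 * z * gw.2⁻¹ with hb
      have haa : a * a = 1 := by
        calc a * a = gw.1 * (z * z) * gw.1⁻¹ := by rw [ha]; group
          _ = 1 := by rw [hz, mul_one, mul_inv_cancel]
      have hbb : b * b = 1 := by
        calc b * b = gw.2 * (z * z) * gw.2⁻¹ := by rw [hb]; group
          _ = 1 := by rw [hz, mul_one, mul_inv_cancel]
      have hinv : a * S.x * a⁻¹ = S.x⁻¹ := by
        have hab : (a * b)⁻¹ = b * a := inv_eq_of_mul_eq_one_right (by
          rw [mul_assoc, ← mul_assoc b b a, hbb, one_mul, haa])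
        rw [← hgw, hab, inv_eq_of_mul_eq_one_right haa, ← mul_assoc a a b, haa, one_mul]
      have h1 := S.hinv a hinv
      have h2' : Nat.card (fixedBy α a) = k := by
        rw [ha, hk]
        refine Nat.card_congr
          { toFun := fun y => ⟨gw.1⁻¹ • (y : α), ?_⟩
            invFun := fun y => ⟨gw.1 • (y : α), ?_⟩
            left_inv := fun y => Subtype.ext (smul_inv_smul _ _)
            right_inv := fun y => Subtype.ext (inv_smul_smul _ _) }
        · have := y.2
          rw [mem_fixedBy] at this ⊢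
          rwa [mul_smul, mul_smul, ← eq_inv_smul_iff] at this
        · have := y.2
          rw [mem_fixedBy] at this ⊢
          rw [mul_smul, mul_smul, inv_smul_smul, this]
      omega
    rw [he, Nat.cast_zero] at h
    exact (mul_eq_zero.mp h.symm).resolve_left (card_ne_zero' (G := G))
  have hord := sum_degree_mul_apply (G := G) S.x⁻¹
  have hx1 : S.x⁻¹ ≠ 1 := fun h => hp.out.ne_one (by
    rw [← S.hx, inv_eq_one.mp h, orderOf_one])
  rw [if_neg hx1] at hord
  haveI : Nonempty α := Fintype.card_pos_iff.mp (hα ▸ hp.out.pos)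
  have hψ : IsIrrCharacter G (fun g => pc (α := α) g - 1) :=
    (permChar_sub_one_irr_iff (by rw [hα']; exact hp.out.two_le)).mpr h2
  obtain ⟨Ψ, hΨ⟩ : ∃ Ψ : IrrCharacter G, (Ψ : G → ℂ) = fun g => pc (α := α) g - 1 := ⟨⟨_, hψ⟩, rfl⟩
  have hfx : pc (α := α) S.x⁻¹ = 0 := by
    rw [pc, S.hfree _ (inv_mem (Subgroup.mem_zpowers _)) hx1, Nat.cast_zero]
  have hpc1 : pc (α := α) (1 : G) = p := by
    simp only [pc, fixedBy_one_eq_univ, Nat.card_univ, hα']
  have hΨ1 : Ψ ≠ irrOne := fun h => by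
    have := congrFun (congrArg Subtype.val h) S.x⁻¹
    rw [hΨ, irrOne_apply] at this
    simp only [hfx] at this
    norm_num at this
  have hp2C : (p : ℂ) - 2 ≠ 0 := by
    intro h
    have : (p : ℂ) = (2 : ℕ) := by push_cast; linear_combination h
    exact hp2 (by exact_mod_cast this)
  have hp1C : (p : ℂ) - 1 ≠ 0 := by
    intro h
    have : (p : ℂ) = (1 : ℕ) := by push_cast; linear_combination h
    exact hp.out.ne_one (by exact_mod_cast this)
  set rest : Finset (IrrCharacter G) := (Finset.univ.erase irrOne).erase Ψ with hrest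
  have hsplit : ∀ F : IrrCharacter G → ℂ, ∑ χ, F χ = F irrOne + F Ψ + ∑ χ ∈ rest, F χ := by
    intro F
    rw [← Finset.add_sum_erase _ _ (Finset.mem_univ irrOne),
      ← Finset.add_sum_erase _ _ (Finset.mem_erase.mpr ⟨hΨ1, Finset.mem_univ Ψ⟩), add_assoc]
  have hcases : ∀ χ ∈ rest,
      (χ : G → ℂ) 1 * (χ : G → ℂ) S.x⁻¹ = ((p : ℂ) - 2) * (χ : G → ℂ) S.x⁻¹ ∧
      (χ : G → ℂ) z * (χ : G → ℂ) z * (χ : G → ℂ) S.x⁻¹ / (χ : G → ℂ) 1 =
        ((k : ℂ) - 2) ^ 2 / ((p : ℂ) - 2) * (χ : G → ℂ) S.x⁻¹ := by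
    intro χ hχ
    rcases S.char_cases hp2 hα h2 χ with h | h | h | ⟨h1, hreg⟩
    · simp [h]
    · exact absurd (Subtype.ext (h.trans (funext fun g => (irrOne_apply g).symm)))
        (Finset.mem_erase.mp (Finset.mem_erase.mp hχ).2).1
    · exact absurd (Subtype.ext (h.trans hΨ.symm)) (Finset.mem_erase.mp hχ).1
    · rw [h1, hreg z hzp, show pc (α := α) z = (k : ℂ) from rfl]
      exact ⟨rfl, by ring⟩
  rw [hsplit, Finset.sum_congr rfl fun χ hχ => (hcases χ hχ).1, ← Finset.mul_sum, hΨ] at hord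
  rw [hsplit, Finset.sum_congr rfl fun χ hχ => (hcases χ hχ).2, ← Finset.mul_sum, hΨ] at hzero
  simp only [irrOne_apply, hfx, hpc1, show pc (α := α) z = (k : ℂ) from rfl] at hord hzero
  set T := ∑ χ ∈ rest, (χ : G → ℂ) S.x⁻¹ with hT
  have hT1 : T = 1 := mul_left_cancel₀ hp2C (by linear_combination hord)
  rw [hT1] at hzero
  field_simp at hzero
  have hkp : ((p : ℂ) - k) ^ 2 = 0 := by linear_combination hzero
  have hkp' : k = p := by
    have := sub_eq_zero.mp (pow_eq_zero_iff two_ne_zero |>.mp hkp)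
    exact_mod_cast this.symm
  refine FaithfulSMul.eq_of_smul_eq_smul (α := α) fun y => ?_
  have huniv : fixedBy α z = Set.univ :=
    Set.eq_of_subset_of_ncard_le (Set.subset_univ _) (by
      rw [Set.ncard_univ, hα', ← Nat.card_coe_set_eq, ← hk, hkp'])
  rw [one_smul]
  exact (huniv.symm ▸ Set.mem_univ y : y ∈ fixedBy α z)

end CfsgLib.PrimeDegreeTwo
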