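import Cfsg.Agent.Lib.PrimeDegreeTwo.Degree
import Cfsg.Agent.S1230
import Mathlib

/-!
# Recognition of `SL(2, 2^a)` by a character of degree `p - 1`

A group with a self-centralising subgroup of order `p ≥ 5` whose normaliser has order `2p`, and a
faithful irreducible character of degree `p - 1` with value `-1` there, has order `p (p - 1) (p - 2)`
and is `SL(2, 2^a)` with `p = 2^a + 1`.
-/

set_option autoImplicit false
set_option maxHeartbeats 1600000
set_option linter.unusedSectionVars false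

noncomputable section

namespace CfsgLib.PrimeDegreeTwo

open MulAction CfsgLib.Char Cfsg
open scoped ComplexConjugate Classical

variable {G α : Type*} [Group G] [Fintype G] [MulAction G α] [Fintype α] {p : ℕ} [hp : Fact p.Prime]
variable (D : Base G α p)
include D

theorem Base.card_order_p : 2 * p * Nat.card {g : G // orderOf g = p} = (p - 1) * Nat.card G := by
  have hθsum : ∀ g : G, ∑ θ : IrrCharacter (Subgroup.zpowers D.S.x), D.S.ind θ g =
      if orderOf g = p then (2 * p : ℂ) else 0 := by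
    intro g
    split_ifs with hg
    · obtain ⟨c, hc⟩ := D.exists_conj_mem hg
      have hne : c * g * c⁻¹ ≠ 1 := fun h => by
        rw [conj_eq_one_iff.mp h, orderOf_one] at hg
        exact hp.out.ne_one hg.symm
      have hne' : (⟨c * g * c⁻¹, hc⟩ : Subgroup.zpowers D.S.x) ≠ 1 := fun h => hne (congrArg Subtype.val h)
      have hne'' : (⟨(c * g * c⁻¹)⁻¹, inv_mem hc⟩ : Subgroup.zpowers D.S.x) ≠ 1 := fun h =>
        hne (inv_eq_one.mp (congrArg Subtype.val h))
      have hθv : ∀ θ : IrrCharacter (Subgroup.zpowers D.S.x), D.S.ind θ g =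
          2 - (θ : Subgroup.zpowers D.S.x → ℂ) ⟨c * g * c⁻¹, hc⟩ -
            (θ : Subgroup.zpowers D.S.x → ℂ) ⟨(c * g * c⁻¹)⁻¹, inv_mem hc⟩ := fun θ => by
        have hcl : IsClassFunction G (D.S.ind θ) := isClassFunction_indFun _ _
        rw [← hcl g c, D.S.ind_apply hc]
      rw [Finset.sum_congr rfl fun θ _ => hθv θ,
        Finset.sum_sub_distrib, Finset.sum_sub_distrib,
        CfsgLib.Blocks.CyclicOrbits.sum_irr_apply D.S.comm hne',
        CfsgLib.Blocks.CyclicOrbits.sum_irr_apply D.S.comm hne'', Finset.sum_const, Finset.card_univ,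
        ← Nat.card_eq_fintype_card, CfsgLib.Blocks.CyclicOrbits.card_irr_of_comm D.S.comm, D.S.card_P]
      simp only [nsmul_eq_mul]
      ring
    · exact Finset.sum_eq_zero fun θ _ => D.S.ind_eq_zero hg θ
  have hinner : ∀ θ : IrrCharacter (Subgroup.zpowers D.S.x),
      ∑ g : G, D.S.ind θ g = if θ = irrOne then 0 else (Nat.card G : ℂ) := by
    intro θ
    split_ifs with h
    · refine Finset.sum_eq_zero fun g _ => ?_
      rw [Setup.ind, show (fun u : Subgroup.zpowers D.S.x => 1 - (θ : _ → ℂ) u) = 0 from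
        funext fun u => by rw [h, irrOne_apply, sub_self]; rfl, indFun_zero]
      rfl
    · obtain ⟨R, hR, hR1, -⟩ := D.exists_exc h
      have h1 : classInner (D.S.ind θ) (fun _ => 1) = 1 := by
        rw [hR, classInner_add_left, classInner_sub_left, classInner_irr_self isIrrCharacter_one,
          classInner_irr_ne D.φ.2 isIrrCharacter_one D.phi_ne_one,
          classInner_irr_ne R.2 isIrrCharacter_one fun h' => by
            have h'' := congrFun h' 1
            rw [hR1] at h''
            have : (p : ℂ) = (3 : ℕ) := by push_cast; linear_combination h''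
            have h5 : p = 3 := by exact_mod_cast this
            have := D.five
            omega]
        ring
      rw [classInner_def] at h1
      simp only [map_one, mul_one] at h1
      exact ((inv_mul_eq_iff_eq_mul₀ (card_ne_zero' (G := G))).mp h1).trans (mul_one _)
  have h : ∑ g : G, ∑ θ : IrrCharacter (Subgroup.zpowers D.S.x), D.S.ind θ g =
      ∑ θ : IrrCharacter (Subgroup.zpowers D.S.x), ∑ g : G, D.S.ind θ g := Finset.sum_comm
  rw [Finset.sum_congr rfl fun g _ => hθsum g, ← Finset.sum_filter, Finset.sum_const,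
    Finset.sum_congr rfl fun θ _ => hinner θ, Finset.sum_ite, Finset.sum_const_zero, zero_add,
    Finset.sum_const, Finset.filter_ne', Finset.card_erase_of_mem (Finset.mem_univ _), Finset.card_univ,
    ← Nat.card_eq_fintype_card (α := IrrCharacter (Subgroup.zpowers D.S.x)),
    CfsgLib.Blocks.CyclicOrbits.card_irr_of_comm D.S.comm, D.S.card_P,
    ← Fintype.card_subtype, ← Nat.card_eq_fintype_card, nsmul_eq_mul, nsmul_eq_mul] at h
  have h' : ((2 * p * Nat.card {g : G // orderOf g = p} : ℕ) : ℂ) = (((p - 1) * Nat.card G : ℕ) : ℂ) := by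
    push_cast
    linear_combination h
  exact_mod_cast h'

/-- The order, the involution centraliser, and its exponent. -/
theorem Base.structure_thm {t : G} (ht : t * t = 1) (ht1 : t ≠ 1) :
    Nat.card G = p * (p - 1) * (p - 2) ∧
      Nat.card (Subgroup.centralizer ({t} : Set G)) = p - 1 ∧
      ∀ y ∈ Subgroup.centralizer ({t} : Set G), y * y = 1 := by
  classical
  have hp5 := D.five
  have hone := D.class_formula ht ht1
  set c := Nat.card (Subgroup.centralizer ({t} : Set G)) with hc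
  set φ : G → ℂ := (D.φ : G → ℂ) with hφd
  -- the classes
  let Is : Finset G := Finset.univ.filter fun g => g ≠ 1 ∧ g * g = 1
  let Xs : Finset G := Finset.univ.filter fun g => orderOf g = p
  let Rs : Finset G := Finset.univ.filter fun g => g ≠ 1 ∧ g * g ≠ 1 ∧ orderOf g ≠ p
  let Os : Finset G := Rs.filter fun g => φ g = 1
  let Bs : Finset G := Rs.filter fun g => φ g = (p : ℂ) - 2
  let Cs : Finset G := Rs.filter fun g => φ g ≠ 1 ∧ φ g ≠ (p : ℂ) - 2
  have h12 : (1 : ℂ) ≠ (p : ℂ) - 2 := fun h => by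
    have : (p : ℂ) = (3 : ℕ) := by push_cast; linear_combination -h
    have : p = 3 := by exact_mod_cast this
    omega
  have hval : ∀ g ∈ Xs, φ g = -1 := by
    intro g hg
    have hg' : orderOf g = p := (Finset.mem_filter.mp hg).2
    obtain ⟨a, ha⟩ := D.exists_conj_mem hg'
    rw [hφd, ← isClassFunction_of_isIrr D.φ.2 g a]
    refine D.val _ ha fun h => ?_
    rw [conj_eq_one_iff.mp h, orderOf_one] at hg'
    exact hp.out.ne_one hg'.symm
  have hinv : ∀ g ∈ Is, φ g = 0 := fun g hg =>
    D.phi_involution (Finset.mem_filter.mp hg).2.2 (Finset.mem_filter.mp hg).2.1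
  have hC5 : ∀ g ∈ Cs, φ g = 2 ∧ p = 5 := by
    intro g hg
    simp only [Cs, Rs, Finset.mem_filter, Finset.mem_univ, true_and] at hg
    obtain ⟨⟨h1, h2, h3⟩, h4, h5⟩ := hg
    rcases D.values h3 h1 with ⟨-, h⟩ | ⟨-, h | h | ⟨h, h'⟩⟩
    · exact absurd h h2
    · exact absurd h h4
    · exact absurd h h5
    · exact ⟨h', h⟩
  have hsplit : ∀ F : G → ℂ, ∑ g, F g =
      F 1 + ∑ g ∈ Is, F g + ∑ g ∈ Xs, F g + (∑ g ∈ Os, F g + ∑ g ∈ Bs, F g + ∑ g ∈ Cs, F g) := by
    intro F
    have hR : ∑ g ∈ Rs, F g = ∑ g ∈ Os, F g + ∑ g ∈ Bs, F g + ∑ g ∈ Cs, F g := by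
      simp only [Os, Bs, Cs, Finset.sum_filter]
      rw [← Finset.sum_add_distrib, ← Finset.sum_add_distrib]
      refine Finset.sum_congr rfl fun g _ => ?_
      by_cases hA : φ g = 1
      · simp [hA, h12]
      · by_cases hB : φ g = (p : ℂ) - 2
        · simp [hB, Ne.symm h12]
        · simp [hA, hB]
    rw [← hR]
    simp only [Is, Xs, Rs, Finset.sum_filter]
    rw [show F 1 = ∑ g : G, (if g = 1 then F g else 0) by simp, ← Finset.sum_add_distrib,
      ← Finset.sum_add_distrib, ← Finset.sum_add_distrib]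
    refine Finset.sum_congr rfl fun g _ => ?_
    by_cases h1 : g = 1
    · subst h1
      simp [(show (1 : ℕ) ≠ p by omega)]
    by_cases h2 : g * g = 1
    · have h3 : orderOf g ≠ p := by
        intro h
        have := Nat.le_of_dvd two_pos (h ▸ orderOf_dvd_of_pow_eq_one (show g ^ 2 = 1 by rw [pow_two, h2]))
        omega
      simp [h1, h2, h3]
    by_cases h3 : orderOf g = p
    · simp [h1, h2, h3]
    · simp [h1, h2, h3]
  have hreal : ∀ g, conj (φ g) = φ g := fun g => by
    obtain ⟨m, hm⟩ := D.phi_int g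
    rw [hφd, hm]; simp
  have e1 : ((p : ℂ) - 1) + (Os.card : ℂ) + ((p : ℂ) - 2) * Bs.card + 2 * Cs.card - Xs.card = 0 := by
    have h := classInner_irr_ne D.φ.2 isIrrCharacter_one D.phi_ne_one
    rw [classInner_def] at h
    simp only [map_one, mul_one] at h
    have h' := (mul_eq_zero.mp h).resolve_left (inv_ne_zero (card_ne_zero' (G := G)))
    rw [← hφd, hsplit, Finset.sum_congr rfl hinv, Finset.sum_congr rfl hval,
      Finset.sum_congr rfl (fun g hg => (Finset.mem_filter.mp hg).2 : ∀ g ∈ Os, φ g = 1),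
      Finset.sum_congr rfl (fun g hg => (Finset.mem_filter.mp hg).2 : ∀ g ∈ Bs, φ g = (p : ℂ) - 2),
      Finset.sum_congr rfl fun g hg => (hC5 g hg).1] at h'
    simp only [Finset.sum_const, nsmul_eq_mul, mul_zero, mul_one, mul_neg] at h'
    rw [show φ 1 = (p : ℂ) - 1 from D.deg] at h'
    linear_combination h'
  have e2 : ((p : ℂ) - 1) ^ 2 + (Os.card : ℂ) + ((p : ℂ) - 2) ^ 2 * Bs.card + 4 * Cs.card + Xs.card =
      Nat.card G := by
    have h := classInner_irr_self D.φ.2
    rw [classInner_def, inv_mul_eq_iff_eq_mul₀ (card_ne_zero' (G := G)), mul_one, ← hφd,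
      Finset.sum_congr rfl fun g _ => by rw [hreal], hsplit,
      Finset.sum_congr rfl (g := fun _ => (0 : ℂ)) fun g hg => by rw [hinv g hg, mul_zero],
      Finset.sum_congr rfl (g := fun _ => (1 : ℂ)) (s₁ := Xs) fun g hg => by rw [hval g hg]; norm_num,
      Finset.sum_congr rfl (g := fun _ => (1 : ℂ)) (s₁ := Os) fun g hg => by
        rw [(Finset.mem_filter.mp hg).2, mul_one],
      Finset.sum_congr rfl (g := fun _ => ((p : ℂ) - 2) ^ 2) (s₁ := Bs) fun g hg => by
        rw [(Finset.mem_filter.mp hg).2, pow_two],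
      Finset.sum_congr rfl (g := fun _ => (4 : ℂ)) (s₁ := Cs) fun g hg => by
        rw [(hC5 g hg).1]; norm_num] at h
    simp only [Finset.sum_const, nsmul_eq_mul, mul_zero, mul_one] at h
    rw [show φ 1 = (p : ℂ) - 1 from D.deg] at h
    linear_combination h
  have e3 : 1 + (Is.card : ℂ) + Xs.card + (Os.card + Bs.card + Cs.card) = Nat.card G := by
    have h := hsplit fun _ => (1 : ℂ)
    simp only [Finset.sum_const, nsmul_eq_mul, mul_one, Finset.card_univ, ← Nat.card_eq_fintype_card] at h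
    exact h.symm
  have e4 : 2 * (p : ℂ) * Xs.card = ((p : ℂ) - 1) * Nat.card G := by
    have h := congrArg (Nat.cast : ℕ → ℂ) D.card_order_p
    rw [Nat.card_eq_fintype_card (α := {g : G // orderOf g = p}), Fintype.card_subtype] at h
    push_cast [Nat.cast_sub (show 1 ≤ p by omega)] at h
    exact h
  have e6 : Is.card * c = Nat.card G := by
    rw [← card_isConj_mul_card_centralizer t, ← hc, ← Fintype.card_subtype, ← Nat.card_eq_fintype_card]
    congr 1
    refine Nat.card_congr (Equiv.subtypeEquivRight fun z => ⟨fun hz => hone.1 z hz.2 hz.1, fun hz => ?_⟩)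
    obtain ⟨a, rfl⟩ := isConj_iff.mp hz
    refine ⟨fun h => ht1 (conj_eq_one_iff.mp h), ?_⟩
    calc a * t * a⁻¹ * (a * t * a⁻¹) = a * (t * t) * a⁻¹ := by group
      _ = 1 := by rw [ht, mul_one, mul_inv_cancel]
  -- integers
  obtain ⟨i, hi⟩ : ∃ i : ℤ, i = (Is.card : ℤ) := ⟨_, rfl⟩
  obtain ⟨B, hB⟩ : ∃ B : ℤ, B = (Bs.card : ℤ) := ⟨_, rfl⟩
  obtain ⟨C, hC⟩ : ∃ C : ℤ, C = (Cs.card : ℤ) := ⟨_, rfl⟩
  obtain ⟨n, hn⟩ : ∃ n : ℤ, n = (Nat.card G : ℤ) := ⟨_, rfl⟩
  obtain ⟨X, hX⟩ : ∃ X : ℤ, X = (Xs.card : ℤ) := ⟨_, rfl⟩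
  obtain ⟨O, hO⟩ : ∃ O : ℤ, O = (Os.card : ℤ) := ⟨_, rfl⟩
  obtain ⟨q, hq⟩ : ∃ q : ℤ, q = (p : ℤ) := ⟨_, rfl⟩
  obtain ⟨cc, hcc⟩ : ∃ cc : ℤ, cc = (c : ℤ) := ⟨_, rfl⟩
  have z1 : (q - 1) + O + (q - 2) * B + 2 * C - X = 0 := by
    subst hq hO hB hC hX
    exact Int.cast_injective (α := ℂ) (by push_cast; exact e1)
  have z2 : (q - 1) ^ 2 + O + (q - 2) ^ 2 * B + 4 * C + X = n := by
    subst hq hO hB hC hX hn
    exact Int.cast_injective (α := ℂ) (by push_cast; exact e2)
  have z3 : 1 + i + X + (O + B + C) = n := by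
    subst hi hO hB hC hX hn
    exact Int.cast_injective (α := ℂ) (by push_cast; exact e3)
  have z4 : 2 * q * X = (q - 1) * n := by
    subst hq hX hn
    exact Int.cast_injective (α := ℂ) (by push_cast; exact e4)
  have z5 : q * cc ^ 2 * (q - 2) = n * (q - 1) := by
    subst hq hcc hn
    exact Int.cast_injective (α := ℂ) (by push_cast; exact hone.2)
  have z6 : i * cc = n := by
    subst hi hcc hn
    exact_mod_cast e6
  have hnpos : 0 < n := by subst hn; exact_mod_cast Nat.card_pos
  have hq5 : 5 ≤ q := by subst hq; exact_mod_cast hp5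
  have hB0 : 0 ≤ B := hB ▸ Int.natCast_nonneg _
  have hC0 : 0 ≤ C := hC ▸ Int.natCast_nonneg _
  have hK : n = q * ((q - 1) * (q - 2) + (q - 2) * (q - 3) * B + 2 * C) := by
    linear_combination q * z1 - q * z2 + z4
  have hi' : i = (q - 1) * (q - 2) + (q - 2) * (q - 3) * B + 2 * C + (q - 2) + (q - 3) * B + C := by
    have h : q * i = q * ((q - 1) * (q - 2) + (q - 2) * (q - 3) * B + 2 * C + (q - 2) + (q - 3) * B + C) := by
      linear_combination q * z3 - q * z1 - z4 + hK
    exact mul_left_cancel₀ (by omega) h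
  have hkey : q ^ 2 * (q - 2) * ((q - 1) * (q - 2) + (q - 2) * (q - 3) * B + 2 * C) = (q - 1) * i ^ 2 := by
    have h : n * (q * n * (q - 2)) = n * ((q - 1) * i ^ 2) := by
      linear_combination i ^ 2 * z5 - q * (q - 2) * (i * cc + n) * z6
    have h' := mul_left_cancel₀ hnpos.ne' h
    linear_combination h' - q * (q - 2) * hK
  obtain ⟨hBz, hCz⟩ : B = 0 ∧ C = 0 := by
    by_cases hCs : Cs.Nonempty
    · obtain ⟨g, hg⟩ := hCs
      obtain rfl : q = 5 := by rw [hq, (hC5 g hg).2]; rfl
      rw [hi'] at hkey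
      have h5 : 510 * B + 210 * C + 256 * B ^ 2 + 192 * (B * C) + 36 * C ^ 2 = 0 := by
        linear_combination -hkey
      have := mul_nonneg hB0 hC0
      have := sq_nonneg B
      have := sq_nonneg C
      constructor <;> linarith
    · have hCz : C = 0 := by rw [hC, Finset.not_nonempty_iff_eq_empty.mp hCs]; rfl
      refine ⟨?_, hCz⟩
      rw [hi', hCz] at hkey
      by_contra hne
      have hBpos : 0 < (q - 3) * B := mul_pos (by omega) (by omega)
      have hprod : (q - 3) * B *
          ((q - 1) ^ 3 * ((q - 3) * B) + (2 * q * (q - 2) * (q - 1) ^ 2 - q ^ 2 * (q - 2) ^ 2)) = 0 := by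
        linear_combination -hkey
      have hpos : 0 < (q - 1) ^ 3 * ((q - 3) * B) + (2 * q * (q - 2) * (q - 1) ^ 2 - q ^ 2 * (q - 2) ^ 2) := by
        have h1 : 0 < (q - 1) ^ 3 * ((q - 3) * B) := mul_pos (pow_pos (by omega) 3) hBpos
        have h2 : q * (q - 2) ≤ 2 * (q - 1) ^ 2 := by nlinarith
        have h3 : 0 ≤ q * (q - 2) := by nlinarith
        nlinarith [mul_le_mul_of_nonneg_left h2 h3]
      exact absurd hprod (mul_ne_zero hBpos.ne' hpos.ne')
  rw [hBz, hCz] at hK hi'
  have hnq : n = q * (q - 1) * (q - 2) := by rw [hK]; ring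
  have hcq : cc = q - 1 := by
    have h : i * cc = i * (q - 1) := by rw [z6, hnq, hi']; ring
    refine mul_left_cancel₀ ?_ h
    rw [hi']; nlinarith
  have hcard : Nat.card G = p * (p - 1) * (p - 2) := by
    have h : ((Nat.card G : ℕ) : ℤ) = ((p * (p - 1) * (p - 2) : ℕ) : ℤ) := by
      push_cast [Nat.cast_sub (show 1 ≤ p by omega), Nat.cast_sub (show 2 ≤ p by omega)]
      rw [← hn, ← hq, hnq]
    exact_mod_cast h
  have hc1 : c = p - 1 := by omega
  refine ⟨hcard, hc1, ?_⟩
  -- exponent two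
  let _ := Fintype.ofFinite (Subgroup.centralizer ({t} : Set G))
  set K := Subgroup.centralizer ({t} : Set G) with hKd
  have hK2 : ∀ y : K, (y : G) = 1 ∨ ((y : G) * y = 1 ∧ φ y = 0) ∨ ((y : G) * y ≠ 1 ∧ φ y = 1) := by
    intro y
    by_cases h1 : (y : G) = 1
    · exact Or.inl h1
    right
    by_cases h2 : (y : G) * y = 1
    · exact Or.inl ⟨h2, D.phi_involution h2 h1⟩
    refine Or.inr ⟨h2, ?_⟩
    have hy : orderOf (y : G) ≠ p := by
      intro h
      have hty : t * (y : G) = y * t := (Subgroup.mem_centralizer_singleton_iff.mp y.2).symm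
      rcases D.orderOf_of_commute h hty with h' | h'
      · exact ht1 h'
      · have := Nat.le_of_dvd two_pos (h' ▸ orderOf_dvd_of_pow_eq_one (show t ^ 2 = 1 by rw [pow_two, ht]))
        omega
    have hmem : (y : G) ∈ Rs := Finset.mem_filter.mpr ⟨Finset.mem_univ _, h1, h2, hy⟩
    by_contra hne
    by_cases hBy : φ y = (p : ℂ) - 2
    · have : (y : G) ∈ Bs := Finset.mem_filter.mpr ⟨hmem, hBy⟩
      have h0 : Bs.card = 0 := by omega
      rw [Finset.card_eq_zero.mp h0] at this
      simp at this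
    · have : (y : G) ∈ Cs := Finset.mem_filter.mpr ⟨hmem, hne, hBy⟩
      have h0 : Cs.card = 0 := by omega
      rw [Finset.card_eq_zero.mp h0] at this
      simp at this
  intro y hy
  by_contra hne
  set S' : Finset K := Finset.univ.filter fun y => (y : G) * y ≠ 1 with hS'
  obtain ⟨k, hk⟩ := classInner_char_nat (isCharacter_res K (isCharacter_of_isIrr D.φ.2))
    (isCharacter_one : IsCharacter K (fun _ => 1))
  rw [classInner_def] at hk
  simp only [map_one, mul_one] at hk
  have hterm : ∀ y : K, φ (y : G) = (if y = 1 then (p : ℂ) - 1 else 0) + (if y ∈ S' then 1 else 0) := by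
    intro y
    rcases hK2 y with h | ⟨h, h'⟩ | ⟨h, h'⟩
    · have hy1 : y = 1 := Subtype.ext h
      subst hy1
      simp only [hS', Finset.mem_filter, Subgroup.coe_one, mul_one, ne_eq, not_true_eq_false, and_false,
        if_true, if_false, add_zero]
      exact D.deg
    · by_cases hy1 : y = 1
      · subst hy1
        rw [show φ ((1 : K) : G) = (p : ℂ) - 1 from D.deg] at h'
        exfalso
        have : (p : ℂ) = (1 : ℕ) := by push_cast; linear_combination h'
        exact hp.out.ne_one (by exact_mod_cast this)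
      · simp [hS', h, hy1, h']
    · have hy1 : y ≠ 1 := fun e => h (by rw [e]; simp)
      simp [hS', h, hy1, h']
  rw [← hφd, Finset.sum_congr rfl fun y _ => hterm y, Finset.sum_add_distrib, Finset.sum_ite_eq',
    if_pos (Finset.mem_univ _), Finset.sum_boole, inv_mul_eq_iff_eq_mul₀ (Nat.cast_ne_zero.mpr Nat.card_pos.ne'),
    Finset.filter_mem_eq_inter, Finset.univ_inter, show Nat.card K = p - 1 from hc1,
    Nat.cast_sub (show 1 ≤ p by omega)] at hk
  have hkN : (p - 1) + S'.card = (p - 1) * k := by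
    have : (((p - 1) + S'.card : ℕ) : ℂ) = (((p - 1) * k : ℕ) : ℂ) := by
      push_cast [Nat.cast_sub (show 1 ≤ p by omega)]
      simpa using hk
    exact_mod_cast this
  have hlt : S'.card < p - 1 := by
    rw [← show Nat.card K = p - 1 from hc1, Nat.card_eq_fintype_card]
    exact Finset.card_lt_univ_of_notMem (x := 1) (by simp [hS'])
  have hpos : 0 < S'.card := Finset.card_pos.mpr ⟨⟨y, hy⟩, by simp [hS', hne]⟩
  rcases Nat.lt_or_ge k 2 with h | h
  · interval_cases k <;> omega
  · have : (p - 1) * 2 ≤ (p - 1) * k := Nat.mul_le_mul_left _ h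
    omega

omit D in
/-- The recognition theorem. -/
theorem recognition {H : Type*} [Group H] [Finite H] {x : H} (hx : orderOf x = p)
    (hC : Subgroup.centralizer ({x} : Set H) = Subgroup.zpowers x)
    (hN : Nat.card (Subgroup.normalizer ((Subgroup.zpowers x : Subgroup H) : Set H)) = 2 * p)
    (φ : IrrCharacter H) (hdeg : (φ : H → ℂ) 1 = (p : ℂ) - 1)
    (hval : ∀ u ∈ Subgroup.zpowers x, u ≠ 1 → (φ : H → ℂ) u = -1)
    (hfaith : ∀ g : H, (φ : H → ℂ) g = (φ : H → ℂ) 1 → g = 1) (hp5 : 5 ≤ p) :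
    Nat.card H = p * (p - 1) * (p - 2) ∧ ∃ (a : ℕ) (F : Type) (_ : Field F) (_ : Fintype F),
      p = 2 ^ a + 1 ∧ Fintype.card F = 2 ^ a ∧ Nonempty (H ≃* Matrix.SpecialLinearGroup (Fin 2) F) := by
  have := Fintype.ofFinite H
  let _ : MulAction H PEmpty.{1} :=
    { smul := fun _ z => z, one_smul := fun z => z.elim, mul_smul := fun _ _ z => z.elim }
  let D : Base H PEmpty.{1} p :=
    { S :=
        { x := x, hx := hx, hC := hC, hN := hN
          hfree := fun u _ _ => Nat.card_of_isEmpty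
          hinv := fun a _ => by rw [Nat.card_of_isEmpty]; exact Nat.zero_le _ }
      φ := φ, deg := hdeg, val := hval, faith := hfaith, five := hp5 }
  have : Fact (Nat.Prime 2) := ⟨Nat.prime_two⟩
  obtain ⟨t, ht⟩ := exists_prime_orderOf_dvd_card' 2
    (G := H) ((hN ▸ dvd_mul_right 2 p : 2 ∣ _).trans (Subgroup.card_subgroup_dvd_card _))
  have htt : t * t = 1 := by rw [← pow_two, ← ht]; exact pow_orderOf_eq_one t
  have ht1 : t ≠ 1 := fun h => by rw [h, orderOf_one] at ht; omega
  obtain ⟨hcard, hcc, hexp⟩ := D.structure_thm htt ht1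
  refine ⟨hcard, ?_⟩
  obtain ⟨hconj, -⟩ := D.class_formula htt ht1
  set K := Subgroup.centralizer ({t} : Set H) with hKd
  have hK2 : IsPGroup 2 K := fun y => ⟨1, Subtype.ext (by simpa [pow_two] using hexp _ y.2)⟩
  obtain ⟨a, ha⟩ := IsPGroup.iff_card.mp hK2
  have hpa : p = 2 ^ a + 1 := by omega
  obtain ⟨T, hT⟩ := hK2.exists_le_sylow
  have hTK : (T : Subgroup H) = K := by
    obtain ⟨b, hb⟩ := IsPGroup.iff_card.mp T.isPGroup'
    refine (Subgroup.eq_of_le_of_card_ge hT ?_).symm
    have hd : 2 ^ b ∣ p * (p - 1) * (p - 2) := hcard ▸ hb ▸ Subgroup.card_subgroup_dvd_card _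
    obtain ⟨m, hm⟩ := D.odd_p
    have hcp : (2 ^ b).Coprime (p * (p - 2)) := Nat.Coprime.pow_left _
      ((Nat.prime_two.coprime_iff_not_dvd).mpr fun h => by
        rcases Nat.prime_two.dvd_mul.mp h with h | h <;> omega)
    rw [show p * (p - 1) * (p - 2) = p * (p - 2) * (p - 1) by ring] at hd
    rw [hb, hcc]
    exact Nat.le_of_dvd (by omega) (hcp.dvd_of_dvd_mul_left hd)
  have hCz : ∀ z : H, orderOf z = 2 → IsMulCommutative (Subgroup.centralizer ({z} : Set H)) ∧
      ∀ y ∈ Subgroup.centralizer ({z} : Set H), y ^ 2 = 1 := by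
    intro z hz
    have hzz : z * z = 1 := by rw [← pow_two, ← hz]; exact pow_orderOf_eq_one z
    obtain ⟨c, rfl⟩ := isConj_iff.mp (hconj z hzz fun h => by rw [h, orderOf_one] at hz; omega)
    have hsq : ∀ y ∈ Subgroup.centralizer ({c * t * c⁻¹} : Set H), y * y = 1 := by
      intro y hy
      have hy' : c⁻¹ * y * c ∈ K := by
        rw [hKd, Subgroup.mem_centralizer_singleton_iff]
        have h := Subgroup.mem_centralizer_singleton_iff.mp hy
        calc c⁻¹ * y * c * t = c⁻¹ * (y * (c * t * c⁻¹)) * c := by group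
          _ = c⁻¹ * (c * t * c⁻¹ * y) * c := by rw [h]
          _ = t * (c⁻¹ * y * c) := by group
      have h := hexp _ hy'
      calc y * y = c * (c⁻¹ * y * c * (c⁻¹ * y * c)) * c⁻¹ := by group
        _ = 1 := by rw [h, mul_one, mul_inv_cancel]
    refine ⟨⟨⟨fun u v => Subtype.ext ?_⟩⟩, fun y hy => by rw [pow_two]; exact hsq y hy⟩
    have hu := inv_eq_of_mul_eq_one_right (hsq _ u.2)
    have hv := inv_eq_of_mul_eq_one_right (hsq _ v.2)
    have huv := inv_eq_of_mul_eq_one_right (hsq _ (mul_mem u.2 v.2))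
    rw [mul_inv_rev, hu, hv] at huv
    exact huv.symm
  have hnc : ¬ IsCyclic (T : Subgroup H) := by
    intro h
    obtain ⟨g, hg⟩ := h.exists_generator
    have h1 : orderOf g = p - 1 := by
      rw [orderOf_eq_card_of_forall_mem_zpowers hg, ← hcc, hTK]
    have h2 : g ^ 2 = 1 := Subtype.ext (by
      simpa [pow_two] using hexp _ (hTK ▸ g.2 : (g : H) ∈ K))
    have := Nat.le_of_dvd two_pos (h1 ▸ orderOf_dvd_of_pow_eq_one h2)
    omega
  have hnn : ¬ (T : Subgroup H).Normal := by
    intro hn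
    have htT : t ∈ (T : Subgroup H) := hT (Subgroup.mem_centralizer_singleton_iff.mpr rfl)
    have hle : Nat.card {z : H // IsConj t z} ≤ Nat.card (T : Subgroup H) :=
      Nat.card_le_card_of_injective (fun z => (⟨z.1, by
        obtain ⟨c, hc⟩ := isConj_iff.mp z.2
        rw [← hc]
        exact hn.conj_mem t htT c⟩ : (T : Subgroup H)))
        fun u v h => Subtype.ext (by simpa using congrArg Subtype.val h)
    have h := card_isConj_mul_card_centralizer t
    rw [show Nat.card (Subgroup.centralizer ({t} : Set H)) = p - 1 from hcc, hcard,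
      show p * (p - 1) * (p - 2) = p * (p - 2) * (p - 1) by ring] at h
    rw [Nat.eq_of_mul_eq_mul_right (by omega) h, hTK, hcc] at hle
    have : p * 3 ≤ p * (p - 2) := Nat.mul_le_mul_left p (by omega)
    omega
  obtain ⟨F, hF, hFf, hFc, ⟨e⟩⟩ := Cfsg.Agent.S1230.result T hnc hnn hCz
  have hFa : Fintype.card F = 2 ^ a := by rw [hFc, hTK, ha]
  refine ⟨a, F, hF, hFf, hpa, hFa, ⟨e.trans ?_⟩⟩
  have hchar : CharP F 2 := by
    obtain ⟨q, hq⟩ := CharP.exists F
    obtain ⟨n, hqp, hqn⟩ := FiniteField.card F q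
    rw [hFa] at hqn
    have hd : q ∣ 2 ^ a := hqn ▸ dvd_pow_self _ n.pos.ne'
    rwa [← (Nat.prime_dvd_prime_iff_eq hqp Nat.prime_two).mp (hqp.dvd_of_dvd_pow hd)]
  have hz : Subgroup.center (Matrix.SpecialLinearGroup (Fin 2) F) = ⊥ := by
    refine (Subgroup.eq_bot_iff_forall _).mpr fun A hA => ?_
    obtain ⟨r, hr, hrA⟩ := Matrix.SpecialLinearGroup.mem_center_iff.mp hA
    rw [Fintype.card_fin] at hr
    have hr1 : r = 1 := (CharTwo.sq_inj (x := r) (y := 1)).mp (by rw [hr, one_pow])
    refine Subtype.ext ?_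
    rw [← hrA, hr1, map_one]
    rfl
  exact (QuotientGroup.quotientMulEquivOfEq hz).trans QuotientGroup.quotientBot

end CfsgLib.PrimeDegreeTwo
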