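import Cfsg.Agent.Lib.PrimeDegreeTwo.Counting
import Cfsg.Agent.Lib.PrimeDegreeTwo.Involution

/-!
# Sharp triple transitivity

* `three_mul_orbits_le`, `add_three_le_orbits`: the orbits of a three-point stabiliser;
* `sq_le_of_blocks`: if the three-point stabilisers fix exactly `k < p` points then
  `(k - 1) * (k - 2) ≤ p - 2`;
* `sharp`: the three-point stabilisers are trivial.
-/

set_option autoImplicit false
set_option linter.unusedSectionVars false

noncomputable section

namespace CfsgLib.PrimeDegreeTwo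

open MulAction
open scoped Classical

variable {G α : Type*} [Group G] [Fintype G] [MulAction G α] [Fintype α] [DecidableEq α]

/-- The points fixed by the stabiliser of a triple. -/
def blk (T : Fin 3 ↪ α) : Finset α :=
  Finset.univ.filter fun y => ∀ g ∈ stabilizer G T, g • y = y

theorem mem_blk {T : Fin 3 ↪ α} {y : α} :
    y ∈ blk (G := G) T ↔ ∀ g ∈ stabilizer G T, g • y = y := by simp [blk]

theorem self_mem_blk (T : Fin 3 ↪ α) (i : Fin 3) : T i ∈ blk (G := G) T :=
  mem_blk.mpr fun g hg => DFunLike.congr_fun (mem_stabilizer_iff.mp hg) i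

theorem card_stabilizer_eq [IsMultiplyPretransitive G α 3] (T U : Fin 3 ↪ α) :
    Nat.card (stabilizer G T) = Nat.card (stabilizer G U) := by
  obtain ⟨g, rfl⟩ := exists_smul_eq G T U
  rw [stabilizer_smul_eq_stabilizer_map_conj]
  exact (Subgroup.card_map_of_injective (MulEquiv.injective _)).symm

theorem stabilizer_eq_of_mem [IsMultiplyPretransitive G α 3] {T U : Fin 3 ↪ α}
    (h : ∀ i, U i ∈ blk (G := G) T) : stabilizer G T = stabilizer G U :=
  Subgroup.eq_of_le_of_card_ge
    (fun g hg => mem_stabilizer_iff.mpr (Function.Embedding.ext fun i => mem_blk.mp (h i) g hg))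
    (card_stabilizer_eq U T).le

theorem blk_eq_of_mem [IsMultiplyPretransitive G α 3] {T U : Fin 3 ↪ α}
    (h : ∀ i, U i ∈ blk (G := G) T) : blk (G := G) U = blk (G := G) T := by
  ext y
  simp only [mem_blk, stabilizer_eq_of_mem h]

theorem card_blk_eq [IsMultiplyPretransitive G α 3] (T U : Fin 3 ↪ α) :
    (blk (G := G) U).card = (blk (G := G) T).card := by
  obtain ⟨g, rfl⟩ := exists_smul_eq G T U
  refine (Finset.card_bij (fun y _ => g • y) (fun y hy => ?_)
    (fun a _ b _ h => MulAction.injective g h) (fun z hz => ⟨g⁻¹ • z, ?_, smul_inv_smul g z⟩)).symm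
  · refine mem_blk.mpr fun w hw => ?_
    have hw' : g⁻¹ * w * g ∈ stabilizer G T := by
      rw [mem_stabilizer_iff, mul_smul, mul_smul, mem_stabilizer_iff.mp hw, inv_smul_smul]
    have h := mem_blk.mp hy _ hw'
    rwa [mul_smul, mul_smul, inv_smul_eq_iff] at h
  · refine mem_blk.mpr fun w hw => ?_
    have hw' : g * w * g⁻¹ ∈ stabilizer G (g • T) := by
      rw [mem_stabilizer_iff, mul_smul, mul_smul, inv_smul_smul, mem_stabilizer_iff.mp hw]
    have h := mem_blk.mp hz _ hw'
    rwa [mul_smul, mul_smul, smul_eq_iff_eq_inv_smul] at h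

omit [Fintype G] in
/-- A triple of three distinct points. -/
def tri (a b c : α) (hab : a ≠ b) (hac : a ≠ c) (hbc : b ≠ c) : Fin 3 ↪ α :=
  ⟨![a, b, c], by
    intro i j h
    fin_cases i <;> fin_cases j <;> simp_all [eq_comm]⟩

/-- The counting in the configuration of blocks. -/
theorem sq_le_of_blocks [IsMultiplyPretransitive G α 3] (T : Fin 3 ↪ α) {x : α}
    (hx : x ∉ blk (G := G) T) :
    ((blk (G := G) T).card - 1) * ((blk (G := G) T).card - 2) ≤ Fintype.card α - 2 := by
  set F := blk (G := G) T with hF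
  set o := T 0 with ho
  have hoF : o ∈ F := self_mem_blk T 0
  have hox : o ≠ x := fun h => hx (h ▸ hoF)
  have hfx : ∀ f ∈ F, x ≠ f := fun f hf h => hx (h ▸ hf)
  let B : α → Finset α := fun f =>
    if h : o ≠ f ∧ x ≠ f then ((blk (G := G) (tri o x f hox h.1 h.2)).erase o).erase x else ∅
  have hB : ∀ f ∈ F.erase o, (B f).card = F.card - 2 := by
    intro f hf
    obtain ⟨hfo, hfF⟩ := Finset.mem_erase.mp hf
    simp only [B, dif_pos (show o ≠ f ∧ x ≠ f from ⟨Ne.symm hfo, hfx f hfF⟩)]
    set U := tri o x f hox (Ne.symm hfo) (hfx f hfF) with hU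
    rw [Finset.card_erase_of_mem (Finset.mem_erase.mpr ⟨hox.symm, self_mem_blk U 1⟩),
      Finset.card_erase_of_mem (show o ∈ blk (G := G) U from self_mem_blk U 0), card_blk_eq T U]
    have : F.card = (blk (G := G) T).card := rfl
    omega
  have hdisj : Set.PairwiseDisjoint (↑(F.erase o)) B := by
    intro f hf f' hf' hne
    rw [Function.onFun, Finset.disjoint_left]
    intro y hy hy'
    obtain ⟨hfo, hfF⟩ := Finset.mem_erase.mp hf
    obtain ⟨hfo', hfF'⟩ := Finset.mem_erase.mp hf'
    simp only [B, dif_pos (show o ≠ f ∧ x ≠ f from ⟨Ne.symm hfo, hfx f hfF⟩)] at hy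
    simp only [B, dif_pos (show o ≠ f' ∧ x ≠ f' from ⟨Ne.symm hfo', hfx f' hfF'⟩)] at hy'
    set U := tri o x f hox (Ne.symm hfo) (hfx f hfF) with hU
    set U' := tri o x f' hox (Ne.symm hfo') (hfx f' hfF') with hU'
    simp only [Finset.mem_erase] at hy hy'
    obtain ⟨hyx, hyo, hyU⟩ := hy
    obtain ⟨-, -, hyU'⟩ := hy'
    set W := tri o x y hox (Ne.symm hyo) (Ne.symm hyx) with hW
    have h1 : blk (G := G) W = blk (G := G) U := blk_eq_of_mem fun i => by
      fin_cases i
      · exact self_mem_blk U 0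
      · exact self_mem_blk U 1
      · exact hyU
    have h2 : blk (G := G) W = blk (G := G) U' := blk_eq_of_mem fun i => by
      fin_cases i
      · exact self_mem_blk U' 0
      · exact self_mem_blk U' 1
      · exact hyU'
    have hUU : blk (G := G) U' = blk (G := G) U := h2.symm.trans h1
    have hf'U : f' ∈ blk (G := G) U := hUU ▸ self_mem_blk U' 2
    set V := tri o f f' (Ne.symm hfo) (Ne.symm hfo') hne with hV
    have h3 : blk (G := G) V = blk (G := G) U := blk_eq_of_mem fun i => by
      fin_cases i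
      · exact self_mem_blk U 0
      · exact self_mem_blk U 2
      · exact hf'U
    have h4 : blk (G := G) V = F := blk_eq_of_mem fun i => by
      fin_cases i
      · exact hoF
      · exact hfF
      · exact hfF'
    exact hx (h4 ▸ h3.symm ▸ self_mem_blk U 1)
  have hsub : (F.erase o).biUnion B ⊆ (Finset.univ.erase o).erase x := by
    intro y hy
    obtain ⟨f, hf, hyf⟩ := Finset.mem_biUnion.mp hy
    obtain ⟨hfo, hfF⟩ := Finset.mem_erase.mp hf
    simp only [B, dif_pos (show o ≠ f ∧ x ≠ f from ⟨Ne.symm hfo, hfx f hfF⟩), Finset.mem_erase] at hyf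
    simp [hyf.1, hyf.2.1]
  have h := Finset.card_le_card hsub
  rw [Finset.card_biUnion hdisj, Finset.sum_congr rfl hB, Finset.sum_const, smul_eq_mul,
    Finset.card_erase_of_mem hoF, Finset.card_erase_of_mem (Finset.mem_erase.mpr ⟨hox.symm, Finset.mem_univ x⟩),
    Finset.card_erase_of_mem (Finset.mem_univ o), Finset.card_univ] at h
  omega

/-- Orbits of an odd stabiliser. -/
theorem three_mul_orbits_le (T : Fin 3 ↪ α) (hodd : Odd (Nat.card (stabilizer G T))) :
    3 * Nat.card (Quotient (orbitRel (stabilizer G T) α)) ≤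
      Fintype.card α + 2 * (blk (G := G) T).card := by
  haveI : Fintype (Quotient (orbitRel (stabilizer G T) α)) := Fintype.ofFinite _
  set q : α → Quotient (orbitRel (stabilizer G T) α) := Quotient.mk _ with hq
  let fib : Quotient (orbitRel (stabilizer G T) α) → Finset α := fun c =>
    Finset.univ.filter fun y => q y = c
  have hsum : Fintype.card α = ∑ c, (fib c).card :=
    Finset.card_eq_sum_card_fiberwise fun y _ => Finset.mem_univ (q y)
  have hone : ∀ c, (fib c).card ≠ 1 → 3 ≤ (fib c).card := by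
    intro c hc
    obtain ⟨y, hy⟩ := Quotient.mk_surjective c
    have horb : (fib c).card = Nat.card (orbit (stabilizer G T) y) := by
      rw [← Fintype.card_subtype, ← Nat.card_eq_fintype_card]
      refine Nat.card_congr (Equiv.subtypeEquivRight fun z => ?_)
      rw [← hy]
      exact Quotient.eq''.trans orbitRel_apply
    have hd : (fib c).card ∣ Nat.card (stabilizer G T) := by
      rw [horb, Nat.card_congr (orbitEquivQuotientStabilizer (stabilizer G T) y)]
      exact Subgroup.card_quotient_dvd_card _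
    have h0 : (fib c).card ≠ 0 := Finset.card_ne_zero.mpr ⟨y, by simp [fib, q, hy]⟩
    have := hodd.of_dvd_nat hd
    obtain ⟨m, hm⟩ := this
    omega
  have hle : ∀ c, 3 ≤ (fib c).card + 2 * (if (fib c).card = 1 then 1 else 0) := by
    intro c
    split_ifs with h
    · omega
    · have := hone c h; omega
  have hfix : (Finset.univ.filter fun c => (fib c).card = 1).card ≤ (blk (G := G) T).card := by
    refine Finset.card_le_card_of_injOn (fun c => c.out) (fun c hc => ?_)
      fun a _ b _ h => Quotient.out_injective h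
    have hc' : (fib c).card = 1 := by simpa using hc
    obtain ⟨z, hz⟩ := Finset.card_eq_one.mp hc'
    have hmem : ∀ w : α, q w = c → w = z := fun w hw => by
      have : w ∈ fib c := by simp [fib, hw]
      simpa [hz] using this
    refine mem_blk.mpr fun g hg => ?_
    show g • c.out = c.out
    refine (hmem (g • c.out) ?_).trans (hmem c.out (Quotient.out_eq c)).symm
    refine Eq.trans ?_ (Quotient.out_eq c)
    exact Quotient.sound (orbitRel_apply.mpr ⟨⟨g, hg⟩, rfl⟩)
  have h3 : ∑ _c : Quotient (orbitRel (stabilizer G T) α), 3 ≤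
      ∑ c, ((fib c).card + 2 * (if (fib c).card = 1 then 1 else 0)) := Finset.sum_le_sum fun c _ => hle c
  rw [Finset.sum_const, Finset.card_univ, Finset.sum_add_distrib, ← hsum, ← Finset.mul_sum,
    Finset.sum_boole, Nat.cast_id, smul_eq_mul] at h3
  rw [Nat.card_eq_fintype_card]
  omega

/-- The orbits on quadruples inject into the orbits of a stabiliser. -/
theorem add_three_le_orbits [IsMultiplyPretransitive G α 3] (T : Fin 3 ↪ α) :
    Nat.card (Quotient (orbitRel G (Fin 4 ↪ α))) + 3 ≤
      Nat.card (Quotient (orbitRel (stabilizer G T) α)) := by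
  have hrep : ∀ c : Quotient (orbitRel G (Fin 4 ↪ α)), ∃ E : Fin 4 ↪ α,
      Quotient.mk _ E = c ∧ ∀ i : Fin 3, E i.castSucc = T i := by
    intro c
    obtain ⟨E, rfl⟩ := Quotient.mk_surjective c
    obtain ⟨g, hg⟩ := exists_smul_eq G (Fin.castSuccEmb.trans E) T
    exact ⟨g • E, Quotient.sound (orbitRel_apply.mpr ⟨g, rfl⟩), fun i => DFunLike.congr_fun hg i⟩
  choose E hE hET using hrep
  let φ : Quotient (orbitRel G (Fin 4 ↪ α)) ⊕ Fin 3 → Quotient (orbitRel (stabilizer G T) α) :=
    Sum.elim (fun c => Quotient.mk _ (E c (Fin.last 3))) (fun i => Quotient.mk _ (T i))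
  have hfixT : ∀ (g : stabilizer G T) (i : Fin 3), g • T i = T i := fun g i =>
    DFunLike.congr_fun (mem_stabilizer_iff.mp g.2) i
  have hlast : ∀ c i, E c (Fin.last 3) ≠ T i := fun c i h => by
    rw [← hET c i] at h
    exact (Fin.castSucc_lt_last i).ne' ((E c).injective h)
  have hinj : Function.Injective φ := by
    rintro (c | i) (c' | i') h
    · obtain ⟨g, hg⟩ := orbitRel_apply.mp (Quotient.eq''.mp h)
      congr 1
      rw [← hE c, ← hE c']
      refine Quotient.sound (orbitRel_apply.mpr ⟨(g : G), Function.Embedding.ext fun j => ?_⟩)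
      show (g : G) • E c' j = E c j
      refine Fin.lastCases ?_ (fun i => ?_) j
      · exact hg
      · rw [hET, hET]; exact hfixT g i
    · obtain ⟨g, hg⟩ := orbitRel_apply.mp (Quotient.eq''.mp h)
      exact absurd (hg.symm.trans (hfixT g i')) (hlast c i')
    · obtain ⟨g, hg⟩ := orbitRel_apply.mp (Quotient.eq''.mp h.symm)
      exact absurd (hg.symm.trans (hfixT g i)) (hlast c' i)
    · obtain ⟨g, hg⟩ := orbitRel_apply.mp (Quotient.eq''.mp h)
      rw [T.injective ((hfixT g i').symm.trans hg).symm]
  have := Nat.card_le_card_of_injective φ hinj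
  rwa [Nat.card_sum, Nat.card_fin] at this

variable [FaithfulSMul G α] {p : ℕ} [hp : Fact p.Prime]

/-- Triple stabilisers are trivial. -/
theorem sharp (S : Setup G α p) (hp5 : 5 ≤ p) (hα : Fintype.card α = p)
    [IsPretransitive G α] [IsMultiplyPretransitive G α 1] [IsMultiplyPretransitive G α 2]
    [IsMultiplyPretransitive G α 3]
    (hfree : ∀ g : G, orderOf g = p → Nat.card (fixedBy α g) = 0)
    (hcount : 2 * p * Nat.card {g : G // orderOf g = p} = (p - 1) * Nat.card G)
    (T : Fin 3 ↪ α) : stabilizer G T = ⊥ := by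
  have hodd : Odd (Nat.card (stabilizer G T)) := by
    rw [← Nat.not_even_iff_odd, even_iff_two_dvd]
    intro h2
    obtain ⟨z, hz⟩ := exists_prime_orderOf_dvd_card' 2 h2
    have hzz : (z : G) * z = 1 := by
      have h := congrArg Subtype.val (hz ▸ pow_orderOf_eq_one z : z ^ 2 = 1)
      simpa [pow_two] using h
    have h3 : 3 ≤ Nat.card (fixedBy α (z : G)) := by
      calc 3 = Nat.card (Fin 3) := (Nat.card_fin 3).symm
        _ ≤ _ := Nat.card_le_card_of_injective
          (fun i => (⟨T i, DFunLike.congr_fun (mem_stabilizer_iff.mp z.2) i⟩ : fixedBy α (z : G)))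
          fun i j h => T.injective (congrArg Subtype.val h)
    have hz1 := S.involution_fixed (by omega) hα inferInstance hzz (by omega)
    rw [← Subgroup.orderOf_coe, hz1, orderOf_one] at hz
    omega
  have h1 := orbit_bound (G := G) hp5 (hp.out.odd_of_ne_two (by omega)) hα hfree hcount
  have h2 := three_mul_orbits_le T hodd
  have h3 := add_three_le_orbits (G := G) T
  set k := (blk (G := G) T).card with hk
  rw [hα] at h2
  have h4 : p + 15 ≤ 4 * k := by omega
  by_cases hall : ∀ x, x ∈ blk (G := G) T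
  · refine (Subgroup.eq_bot_iff_forall _).mpr fun g hg => FaithfulSMul.eq_of_smul_eq_smul (α := α) fun y => ?_
    rw [one_smul]
    exact mem_blk.mp (hall y) g hg
  exfalso
  push Not at hall
  obtain ⟨x, hx⟩ := hall
  have h5 := sq_le_of_blocks T hx
  rw [hα, ← hk] at h5
  obtain ⟨m, hm⟩ : ∃ m, k = m + 2 := ⟨k - 2, by omega⟩
  rw [hm] at h5 h4
  simp only [show m + 2 - 1 = m + 1 by omega, show m + 2 - 2 = m by omega] at h5
  have h6 : p - 2 ≤ 4 * m - 9 := by omega
  nlinarith [Nat.mul_le_mul_right m (show 3 ≤ m + 1 by omega), Nat.sub_add_cancel (show 9 ≤ 4 * m by omega)]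

end CfsgLib.PrimeDegreeTwo
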